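import Mathlib
import Cfsg.Agent.Th3.Term
import Cfsg.Agent.Fus.EssSmall

/-! Maximal subgroups of a centric subgroup -/

set_option autoImplicit false

namespace Cfsg.Agent.Th3

open Cfsg.Agent.Spor Cfsg.Agent.Rec Cfsg.Agent.Fus Subgroup
open scoped commutatorElement

namespace Tree

variable {Ω : Type*} [Group Ω]

theorem exists_max {E X : Subgroup Ω} [Finite E] (hE : IsPGroup 3 E) (hX : X < E) :
    ∃ H, X ≤ H ∧ ⁅E, E⁆ ⊔ powerClosure 3 1 E ≤ H ∧ H ≤ E ∧ ¬ E ≤ H ∧ ∀ b ∈ E, b ∉ H → E ≤ H ⊔ zpowers b := by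
  haveI : Fact (Nat.Prime 3) := ⟨Nat.prime_three⟩
  obtain ⟨M, hM, hle⟩ := (eq_top_or_exists_le_coatom (X.subgroupOf E)).resolve_left
    fun h => hX.not_ge (subgroupOf_eq_top.1 h)
  refine ⟨M.map E.subtype, fun x hx => ⟨⟨x, hX.le hx⟩, hle hx, rfl⟩, ?_, map_subtype_le _, fun h => hM.1 ?_,
    fun b hb hn x hx => ?_⟩
  · rw [← map_frattini_eq hE]
    exact map_mono (frattini_le_coatom hM)
  · refine eq_top_iff.2 fun x _ => ?_
    obtain ⟨y, hy, e⟩ := h x.2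
    rwa [← show y = x from Subtype.ext e]
  · have h1 : M ⊔ zpowers ⟨b, hb⟩ = ⊤ := hM.2 _ (left_lt_sup.2 fun h => hn ⟨_, h (mem_zpowers _), rfl⟩)
    have h2 := mem_map_of_mem E.subtype (h1.ge (mem_top ⟨x, hx⟩))
    rwa [Subgroup.map_sup, MonoidHom.map_zpowers] at h2

theorem tri {E M : Subgroup Ω} (hM : ⁅E, E⁆ ⊔ powerClosure 3 1 E ≤ M) (hME : M ≤ E) {b x : Ω} (hb : b ∈ E)
    (hx : x ∈ M ⊔ zpowers b) : x ∈ M ∨ x * b ∈ M ∨ x * b⁻¹ ∈ M := by
  have hn : ∀ g ∈ E, ∀ m ∈ M, g * m * g⁻¹ ∈ M := fun g hg m hm => by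
    have := mul_mem (hM (mem_sup_left (commutator_mem_commutator hg (hME hm)))) hm
    rwa [commutatorElement_def, inv_mul_cancel_right] at this
  have h3 : b ^ 3 ∈ M := hM (mem_sup_right (GT.PG.pow_mem_powerClosure_one hb))
  have hz : zpowers b ≤ normalizer (M : Set Ω) := zpowers_le.2 (mem_normalizer_iff.2 fun m =>
    ⟨hn b hb m, fun h => by simpa [mul_assoc] using hn _ (inv_mem hb) _ h⟩)
  rw [← SetLike.mem_coe, coe_mul_of_right_le_normalizer_left _ _ hz] at hx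
  obtain ⟨m, hm, _, ⟨k, rfl⟩, rfl⟩ := hx
  have h4 : ∀ q : ℤ, m * b ^ (3 * q) ∈ M := fun q => mul_mem hm (by
    rw [zpow_mul]; exact zpow_mem (by exact_mod_cast h3) q)
  obtain ⟨q, rfl | rfl | rfl⟩ : ∃ q, k = 3 * q ∨ k = 3 * q - 1 ∨ k = 3 * q + 1 := ⟨(k + 1) / 3, by omega⟩
  · exact .inl (h4 q)
  · exact .inr (.inl (by simpa [zpow_sub_one, mul_assoc] using h4 q))
  · exact .inr (.inr (by simpa [zpow_add_one, mul_assoc] using h4 q))

theorem choose_nil (b b' : ℕ) (f : List ℕ → ℕ → Bool) : choose b b' f .nil = f := rfl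

theorem choose_cons (b b' : ℕ) (f : List ℕ → ℕ → Bool) (p r i : ℕ) (tl : PL) (acc : List ℕ) (idx : ℕ) :
    choose b b' f (.cons p r i tl) acc idx = band (choose b b' f tl (r :: acc) (Nat.mul 3 idx))
      (band (choose b b' f tl (mul r b :: acc) (Nat.add (Nat.mul 3 idx) 1))
        (choose b b' f tl (mul r b' :: acc) (Nat.add (Nat.mul 3 idx) 2))) := rfl

theorem hyp_cons (f : List ℕ → ℕ → Bool) (p b b' : ℕ) (tl : PL) (pre : List ℕ) :
    hyp f (.cons p b b' tl) pre = band (choose b b' f tl pre 1) (hyp f tl (b :: pre)) := rfl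

variable {S : Subgroup Ω} (C : Sy S)

/-- The subgroup generated by a list of codes. -/
def gen (l : List ℕ) : Subgroup Ω := closure {x | ∃ g ∈ l, C.elt g = x}

theorem gen_cons (a : ℕ) (l : List ℕ) : gen C (a :: l) = zpowers (C.elt a) ⊔ gen C l := by
  rw [gen, gen, zpowers_eq_closure, ← Subgroup.closure_union]
  congr 1
  ext x
  simp [eq_comm]

theorem gen_le {l : List ℕ} {H : Subgroup Ω} (h : ∀ g ∈ l, C.elt g ∈ H) : gen C l ≤ H :=
  (closure_le _).2 fun _ ⟨g, hg, e⟩ => e ▸ h g hg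

theorem in_tail {p g i : ℕ} {tl : PL} {H : Subgroup Ω} (h : C.In (.cons p g i tl) H) :
    (g < 59049 ∧ C.elt g ∈ H) ∧ (i < 59049 ∧ C.elt i ∈ H) ∧ C.In tl H :=
  ⟨h g (.head _), h i (.tail _ (.head _)), fun a ha => h a (.tail _ (.tail _ ha))⟩

variable {E H M : Subgroup Ω} {f : List ℕ → ℕ → Bool}

theorem choose_spec {b b' : ℕ} (hb : b < 59049) (hb' : b' < 59049) (e : C.elt b' = (C.elt b)⁻¹)
    (ht : ∀ x ∈ E, x ∈ H ∨ x * C.elt b ∈ H ∨ x * (C.elt b)⁻¹ ∈ H) (R : PL) (hR : C.In R E) :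
    ∀ acc idx, (∀ g ∈ acc, g < 59049 ∧ C.elt g ∈ H) → E ≤ gen C acc ⊔ C.sub R ⊔ M ⊔ zpowers (C.elt b) →
      choose b b' f R acc idx = true → ∃ acc idx, (∀ g ∈ acc, g < 59049 ∧ C.elt g ∈ H) ∧
        E ≤ gen C acc ⊔ M ⊔ zpowers (C.elt b) ∧ f acc idx = true := by
  induction R with
  | nil => exact fun acc idx h1 h2 h3 => ⟨acc, idx, h1, by simpa [C.sub_nil] using h2, h3⟩
  | cons p r i tl ih =>
    intro acc idx h1 h2 h3
    obtain ⟨hr, -, htl⟩ := in_tail C hR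
    rw [choose_cons, band_iff, band_iff] at h3
    have key : ∀ r', r' < 59049 → C.elt r' ∈ H → (C.elt r')⁻¹ * C.elt r ∈ zpowers (C.elt b) → ∀ idx,
        choose b b' f tl (r' :: acc) idx = true → ∃ acc idx, (∀ g ∈ acc, g < 59049 ∧ C.elt g ∈ H) ∧
        E ≤ gen C acc ⊔ M ⊔ zpowers (C.elt b) ∧ f acc idx = true := fun r' a1 a2 a3 idx a4 => by
      refine ih htl (r' :: acc) idx (List.forall_mem_cons.2 ⟨⟨a1, a2⟩, h1⟩) (h2.trans ?_) a4
      rw [C.sub_cons, gen_cons]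
      refine sup_le (sup_le (sup_le ?_ (sup_le (zpowers_le.2 ?_) ?_)) ?_) le_sup_right
      · exact le_sup_of_le_left (le_sup_of_le_left (le_sup_of_le_left le_sup_right))
      · rw [← mul_inv_cancel_left (C.elt r') (C.elt r)]
        exact mul_mem (mem_sup_left (mem_sup_left (mem_sup_left (mem_sup_left (mem_zpowers _))))) (mem_sup_right a3)
      · exact le_sup_of_le_left (le_sup_of_le_left le_sup_right)
      · exact le_sup_of_le_left le_sup_right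
    rcases ht _ hr.2 with k | k | k
    · exact key r hr.1 k (by simp) _ h3.1
    · obtain ⟨m1, m2⟩ := C.mul_ok hr.1 hb
      exact key _ m1 (m2 ▸ k) (by simp [m2]) _ h3.2.1
    · obtain ⟨m1, m2⟩ := C.mul_ok hr.1 hb'
      exact key _ m1 (by rwa [m2, e]) (by simp [m2, e]) _ h3.2.2

theorem hyp_spec (hM : M ≤ H) (hn : ¬ E ≤ H)
    (ht : ∀ b ∈ E, b ∉ H → ∀ x ∈ E, x ∈ H ∨ x * b ∈ H ∨ x * b⁻¹ ∈ H) (B : PL) (hB : C.In B E) (hi : C.Inv B) :
    ∀ pre, (∀ g ∈ pre, g < 59049 ∧ C.elt g ∈ H) → E ≤ gen C pre ⊔ C.sub B ⊔ M → hyp f B pre = true →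
      ∃ b ∈ E, b ∉ H ∧ ∃ acc idx, (∀ g ∈ acc, g < 59049 ∧ C.elt g ∈ H) ∧
        E ≤ gen C acc ⊔ M ⊔ zpowers b ∧ f acc idx = true := by
  induction B with
  | nil =>
    intro pre h1 h2 _
    rw [C.sub_nil, sup_bot_eq] at h2
    exact absurd (h2.trans (sup_le (gen_le C fun g hg => (h1 g hg).2) hM)) hn
  | cons p b b' tl ih =>
    intro pre h1 h2 h3
    obtain ⟨hb, hb', htl⟩ := in_tail C hB
    rw [hyp_cons, band_iff] at h3
    rw [C.sub_cons] at h2
    by_cases k : C.elt b ∈ H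
    · refine ih htl hi.2 (b :: pre) (List.forall_mem_cons.2 ⟨⟨hb.1, k⟩, h1⟩) (h2.trans_eq ?_) h3.2
      rw [gen_cons, ← sup_assoc, sup_comm (gen C pre)]
    · refine ⟨_, hb.2, k, choose_spec C hb.1 hb'.1 hi.1 (ht _ hb.2 k) tl htl pre 1 h1 (h2.trans_eq ?_) h3.1⟩
      ac_rfl

end Tree

open Tree

theorem Sy.tree_spec {Ω : Type*} [Group Ω] {S : Subgroup Ω} (C : Sy S) (hS : IsPGroup 3 S)
    {T : ℕ → ℕ} {n j D : ℕ} {E K : PL} (hT : ∀ i < n, (dec 10 (T i)).closed = true) (hE : E.closed = true)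
    {X : Subgroup Ω} (hX : X < C.sub E) (hc : ∀ s ∈ S, (∀ x ∈ X, s * x = x * s) → s ∈ X)
    (hK : C.In K (⁅C.sub E, C.sub E⁆ ⊔ powerClosure 3 1 (C.sub E) ⊔ X)) (hK' : C.Inv K)
    (h : tree T n j E K D = true) :
    ∃ i, j < i ∧ i < n ∧ ∃ g ∈ S, ∀ x ∈ X, g * x * g⁻¹ ∈ C.sub (dec 10 (T i)) := by
  have := C.finite
  have hES := C.sub_le hE
  have : Finite (C.sub E) := Finite.of_injective _ (inclusion_injective hES)
  have hKK := C.in_sub_of_inv hK hK'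
  obtain ⟨B, hk, hB, hi, hs⟩ := C.split_spec hE hKK h
  rw [band_iff] at hk
  have hle : C.sub E ≤ C.sub B ⊔ C.sub K := fun x hx => by
    obtain ⟨t, ht, k⟩ := hs 0 (by norm_num) x hx
    have k1 := (C.prod_ok (C.in_sub_of_inv hB hi) (by norm_num) ht).2
    rw [C.elt_zero, inv_one, one_mul] at k1
    rw [C.elt_zero, one_mul] at k
    rw [← mul_inv_cancel_left (C.elt t) x]
    exact mul_mem (mem_sup_left k1) (mem_sup_right k)
  have hΦ := C.frat_le hKK hB hi hle hk.1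
  obtain ⟨H, h1, h2, h3, h4, h5⟩ := exists_max (hS.to_le hES) hX
  have hKH : C.sub K ≤ H := hK.sub_le.trans (sup_le h2 h1)
  obtain ⟨b, hb, bH, acc, idx, a1, a2, a3⟩ := hyp_spec C hKH h4
    (fun b hb bH x hx => tri h2 h3 hb (h5 b hb bH hx)) B hB hi [] (by simp)
    (hle.trans (sup_le_sup_right le_sup_right _)) hk.2
  have hMH : gen C acc ⊔ C.sub K ≤ H := sup_le (gen_le C fun g hg => (a1 g hg).2) hKH
  have hXM : X ≤ gen C acc ⊔ C.sub K := fun x hx => by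
    rcases tri (le_sup_of_le_right hΦ) (hMH.trans h3) hb (a2 (hX.le hx)) with k | k | k
    · exact k
    · exact absurd ((mul_mem_cancel_left (h1 hx)).1 (hMH k)) bH
    · exact absurd (inv_mem_iff.1 ((mul_mem_cancel_left (h1 hx)).1 (hMH k))) bH
  simp only [leaf, force_eq, band_iff, blt_iff, ifLt_eq] at a3
  generalize Nat.land (getP 32 4294967295 D idx) 65535 = g at a3
  generalize Nat.shiftRight (getP 32 4294967295 D idx) 16 = ch at a3
  obtain ⟨hg, a3⟩ := a3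
  split_ifs at a3 with hch
  · simp only [band_iff, bneg_iff, allL_iff, PL.all_iff] at a3
    refine absurd ((C.has_iff hE hg).2 (hX.le (hc _ (C.elt_mem hg) fun x hx => ?_))) a3.1
    have k : gen C acc ⊔ C.sub K ≤ centralizer {C.elt g} := sup_le
      (gen_le C fun m hm => mem_centralizer_singleton_iff.2 ((C.cmt_iff hg (a1 m hm).1).1 (a3.2.1 m hm)).symm)
      (C.sub_le_iff.2 fun m hm =>
        mem_centralizer_singleton_iff.2 ((C.cmt_iff hg (hK.gens hm).1).1 (a3.2.2 m hm)).symm)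
    exact (mem_centralizer_singleton_iff.1 (k (hXM hx))).symm
  · simp only [band_iff, blt_iff, force_eq, decK_eq, allL_iff, PL.all_iff] at a3
    obtain ⟨⟨c1, c2⟩, c3, c4⟩ := a3
    obtain ⟨i1, i2⟩ := C.inv_ok hg
    have key : ∀ m < 59049, (dec 10 (T ch)).has (cj g m (inv g)) = true →
        C.elt m ∈ (C.sub (dec 10 (T ch))).comap (MulAut.conj (C.elt g)).toMonoidHom := fun m hm k => by
      obtain ⟨j1, j2⟩ := C.cj_ok hg hm i1
      have k1 := (C.has_iff (hT ch c2) j1).1 k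
      rwa [j2, i2] at k1
    exact ⟨ch, c1, c2, _, C.elt_mem hg, fun x hx => sup_le (gen_le C fun m hm => key m (a1 m hm).1 (c3 m hm))
      (C.sub_le_iff.2 fun m hm => key m (hK.gens hm).1 (c4 m hm)) (hXM hx)⟩

end Cfsg.Agent.Th3
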