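import Mathlib
import Cfsg.Agent.Th3.NoP
import Cfsg.Agent.Th3.Kill
import Cfsg.Agent.Th3.Tree
import Cfsg.Agent.Th3.Cert0
import Cfsg.Agent.Th3.Cert1
import Cfsg.Agent.Th3.Cert2
import Cfsg.Agent.Th3.Cert3
import Cfsg.Agent.Fus.SpOdd

/-! The essential subgroups -/

set_option autoImplicit false
set_option maxRecDepth 100000
set_option synthInstance.maxSize 100000
set_option synthInstance.maxHeartbeats 400000

namespace Cfsg.Agent.Th3

open Cfsg.Agent.Spor Cfsg.Agent.Rec Cfsg.Agent.Fus Cfsg.FusionSystem Subgroup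
open scoped commutatorElement

theorem chkL_ext {T : ℕ → ℕ} {n : ℕ} {s : ℕ → Bool} {l : List Ct} {a b : ℕ} (h : chkL T n s l a = true)
    (e : a + l.length = b) (h0 : ∀ j < a, ∃ c, chk T n s j c = true) : ∀ j < b, ∃ c, chk T n s j c = true := by
  induction l generalizing a with
  | nil => exact e ▸ h0
  | cons c l ih =>
    have h : band (chk T n s a c) (chkL T n s l (a + 1)) = true := h
    rw [band_iff] at h
    refine ih h.2 (by rw [← e, List.length_cons]; omega) fun j hj => ?_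
    rcases Nat.lt_succ_iff_lt_or_eq.1 hj with k | rfl
    exacts [h0 j k, ⟨c, h.1⟩]

theorem chk_all : ∀ j < 1467, ∃ c, chk nt 1467 sv j c = true :=
  chkL_ext ok23 len23 <| chkL_ext ok22 len22 <| chkL_ext ok21 len21 <| chkL_ext ok20 len20 <| chkL_ext ok19
    len19 <| chkL_ext ok18 len18 <| chkL_ext ok17 len17 <| chkL_ext ok16 len16 <| chkL_ext ok15 len15 <|
    chkL_ext ok14 len14 <| chkL_ext ok13 len13 <| chkL_ext ok12 len12 <| chkL_ext ok11 len11 <| chkL_ext ok10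
    len10 <| chkL_ext ok9 len9 <| chkL_ext ok8 len8 <| chkL_ext ok7 len7 <| chkL_ext ok6 len6 <| chkL_ext ok5
    len5 <| chkL_ext ok4 len4 <| chkL_ext ok3 len3 <| chkL_ext ok2 len2 <| chkL_ext ok1 len1 <| chkL_ext ok0
    len0 <| fun _ h => absurd h (Nat.not_lt_zero _)

theorem chk_iff {T : ℕ → ℕ} {n : ℕ} {s : ℕ → Bool} {j : ℕ} {c : Ct} {E : PL} (e : dec 10 (T j) = E)
    (h : chk T n s j c = true) : E.closed = true ∧ (build okF (valG E E E) 10 c.f .nil fun F =>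
      band (bor (s j) (kill E F c.k c.ws)) (ifLt c.z 1 (tree T n j E F c.h)
        (build (okZ E) (valG E E E) 10 c.z .nil fun K => tree T n j E K c.h))) = true := by
  rw [chk, force_eq, decK_eq, band_iff, e] at h
  exact h

theorem valG_code (E A B L : PL) {d : ℕ} (h : ¬ d % 16 < 4) : valG E A B L d = Nat.shiftRight d 4 := by
  simp only [valG, force_eq, ifLt_eq, TermA.land15]
  rw [if_neg (by omega), if_neg (by omega), if_neg h]

theorem nodes_eq : (dec 10 (nt 0)).gens = l10.gens ∧ (dec 10 (nt 1)).gens = l9.gens ∧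
    (dec 10 (nt 2)).gens = lE2.gens ∧ (dec 10 (nt 93)).gens = lPP.gens ∧
    (dec 10 (nt 1015)).gens = lA0.gens := by decide +kernel

namespace Sy

variable {Ω : Type*} [Group Ω] {S : Subgroup Ω} (C : Sy S)

theorem sub_congr {L K : PL} (h : L.gens = K.gens) : C.sub L = C.sub K := by rw [sub, sub, h]

variable [Finite S] [Fact (Nat.Prime 3)] {F : FusionSystem S} (hS : IsPGroup 3 S) (hF : F.IsSaturated 3)
include hS hF

theorem ess_step {j : ℕ} (hj : j < 1467) {X : Subgroup Ω} (hX : F.IsEssential 3 X)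
    (hle : X ≤ C.sub (dec 10 (nt j))) : (sv j = true ∧ X = C.sub (dec 10 (nt j))) ∨
      ∃ i, j < i ∧ i < 1467 ∧ ∃ g ∈ S, ∀ x ∈ X, g * x * g⁻¹ ∈ C.sub (dec 10 (nt i)) := by
  have hT : ∀ i < 1467, (dec 10 (nt i)).closed = true := fun i hi =>
    (chk_iff rfl (chk_all i hi).choose_spec).1
  obtain ⟨c, hc⟩ := chk_all j hj
  generalize e : dec 10 (nt j) = E at hle ⊢
  obtain ⟨hE, h⟩ := chk_iff e hc
  have hΦ : ⁅C.sub E, C.sub E⁆ ⊔ powerClosure 3 1 (C.sub E) ≤ C.sub E :=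
    (((invA_top ⊤).commutator (invA_top ⊤)).sup ((invA_top ⊤).powerClosure 3 1)).1
  obtain ⟨K, k1, k2, k3⟩ := C.build_spec (H := ⁅C.sub E, C.sub E⁆ ⊔ powerClosure 3 1 (C.sub E))
    (fun L d hL hd => C.valG_frat hE le_rfl hΦ hL (by rwa [okF, blt_iff, TermA.land15] at hd))
    C.term_in_nil trivial h
  rw [band_iff, bor_iff, ifLt_eq] at k3
  rcases hle.eq_or_lt with rfl | hlt
  · exact .inl ⟨k3.1.resolve_right fun k => C.kill_spec hS hF hE k1 k hX, rfl⟩
  have hc : ∀ s ∈ S, (∀ x ∈ X, s * x = x * s) → s ∈ X := fun s hs k =>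
    hX.isCentric.2 X (FusionSystem.IsConj.refl F hX.isCentric.1) ⟨hs, fun x hx => (k x hx).symm⟩
  right
  have k4 := k3.2
  split_ifs at k4
  · exact C.tree_spec hS hT hE hlt hc (k1.mono le_sup_left) k2 k4
  refine (C.build_spec (H := ⁅C.sub E, C.sub E⁆ ⊔ powerClosure 3 1 (C.sub E) ⊔ X) (fun L d hL hd => ?_)
    C.term_in_nil trivial k4).elim fun K' l => C.tree_spec hS hT hE hlt hc l.1 l.2.1 l.2.2
  by_cases hd' : d % 16 < 4
  · exact C.valG_frat hE le_sup_left (sup_le hΦ hle) hL hd'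
  rw [okZ, bor_iff, blt_iff, TermA.land15, force_eq, band_iff, blt_iff, PL.all_iff] at hd
  obtain ⟨d1, d2⟩ := hd.resolve_left hd'
  rw [valG_code E E E L hd']
  refine ⟨d1, mem_sup_right (hc _ (C.elt_mem d1) fun x hx => ?_)⟩
  refine (C.sub_le_iff (H := centralizer {C.elt (Nat.shiftRight d 4)})).2 (fun g hg => ?_) (hle hx) _ rfl
  rw [mem_centralizer_singleton_iff]
  exact ((C.cmt_iff d1 ((C.in_sub hE).gens hg).1).1 (d2 g hg)).symm

theorem ess_node (k : ℕ) : ∀ j < 1467, 1467 ≤ j + k → ∀ {X : Subgroup Ω}, F.IsEssential 3 X →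
    X ≤ C.sub (dec 10 (nt j)) → ∃ i, sv i = true ∧ F.IsEssential 3 (C.sub (dec 10 (nt i))) ∧
      Nat.card X = Nat.card (C.sub (dec 10 (nt i))) ∧
      (S ≤ normalizer (C.sub (dec 10 (nt i)) : Set Ω) → X = C.sub (dec 10 (nt i))) := by
  induction k with
  | zero => intro j h1 h2; omega
  | succ k ih =>
    intro j h1 h2 X hX hle
    rcases C.ess_step hS hF h1 hX hle with ⟨h, e⟩ | ⟨i, i1, i2, g, hg, h⟩
    · exact ⟨j, h, e ▸ hX, e ▸ rfl, fun _ => e⟩
    have hm : F.Mor S fun x => g * x * g⁻¹ := F.mor_conj le_rfl hg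
    obtain ⟨i', a1, a2, a3, a4⟩ := ih i i2 (by omega) (SU.ess_img hX hm.iso_top) (img_le_iff.2 h)
    refine ⟨i', a1, a2, by rw [← a3, hm.card_img hX.isCentric.1], fun hn => Subgroup.ext fun y => ?_⟩
    rw [mem_normalizer_iff.1 (hn hg) y, ← a4 hn, mem_img_conj]
    simp [mul_assoc]

theorem ess_cases {E : Subgroup Ω} (hE : F.IsEssential 3 E) :
    E = C.E1 ∨ E = C.E2 ∨ (F.IsEssential 3 C.A0 ∧ Nat.card E = 3 ^ 5) := by
  obtain ⟨n0, n1, n2, n3, n4⟩ := nodes_eq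
  have e0 : C.sub (dec 10 (nt 0)) = S := by rw [C.sub_congr n0, ← levL_10]; exact C.lev_ten
  have e1 : C.sub (dec 10 (nt 1)) = C.E1 := by rw [C.sub_congr n1, ← levL_9]; rfl
  have e2 : C.sub (dec 10 (nt 2)) = C.E2 := C.sub_congr n2
  have e3 : C.sub (dec 10 (nt 93)) = C.PP := C.sub_congr n3
  have e4 : C.sub (dec 10 (nt 1015)) = C.A0 := C.sub_congr n4
  obtain ⟨i, a1, a2, a3, a4⟩ := C.ess_node hS hF 1467 0 (by norm_num) le_rfl hE (e0.symm ▸ hE.isCentric.1)
  rw [sv, bor_iff, bor_iff, blt_iff, nbeq_iff, nbeq_iff] at a1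
  obtain rfl | rfl | rfl | rfl | rfl : i = 0 ∨ i = 1 ∨ i = 2 ∨ i = 93 ∨ i = 1015 := by omega
  · exact absurd (hF.lt_of_isEssential hS a2) (by rw [e0]; exact lt_irrefl _)
  · rw [e1] at a4; exact .inl (a4 (C.le_normalizer_lev 9))
  · rw [e2] at a4; exact .inr (.inl (a4 C.le_normalizer_E2))
  · exact absurd (e3 ▸ a2) (C.not_ess_PP hS hF)
  · rw [e4] at a2 a3; exact .inr (.inr ⟨a2, a3.trans C.card_A0⟩)

end Sy

end Cfsg.Agent.Th3
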