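import Mathlib
import Cfsg.Agent.Th3.Q9b
import Cfsg.Agent.Th3.Ess
import Cfsg.Agent.Th3.G1
import Cfsg.Agent.Th3.K2
import Cfsg.Agent.Fus.InvSub

/-! Consequences of A0 being essential -/

set_option autoImplicit false
set_option maxRecDepth 100000
set_option synthInstance.maxSize 100000
set_option synthInstance.maxHeartbeats 400000

namespace Cfsg.Agent.Th3.Q9c

variable {H : Type*} [Group H] {a b : H} {φ ψ : MulAut H} {p q r s p' q' r' s' : ℕ}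

/-- The matrix of an automorphism on two commuting elements of order three. -/
def Mx (a b : H) (φ : MulAut H) (p q r s : ℕ) : Prop := φ a = a ^ p * b ^ q ∧ φ b = a ^ r * b ^ s

theorem Mx.mul (c : Commute a b) (a3 : a ^ 3 = 1) (b3 : b ^ 3 = 1) (h : Mx a b φ p q r s)
    (h' : Mx a b ψ p' q' r' s') :
    Mx a b (φ * ψ) ((p * p' + r * q') % 3) ((q * p' + s * q') % 3) ((p * r' + r * s') % 3)
      ((q * r' + s * s') % 3) := by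
  have key : ∀ i j, φ (a ^ i * b ^ j) = a ^ ((p * i + r * j) % 3) * b ^ ((q * i + s * j) % 3) := fun i j => by
    rw [map_mul, map_pow, map_pow, h.1, h.2, (c.pow_pow _ _).mul_pow, (c.pow_pow _ _).mul_pow,
      ← pow_eq_pow_mod _ a3, ← pow_eq_pow_mod _ b3, pow_add, pow_add]
    simp only [← pow_mul]
    exact (c.pow_pow _ _).symm.mul_mul_mul_comm _ _
  exact ⟨by rw [MulAut.mul_apply, h'.1, key], by rw [MulAut.mul_apply, h'.2, key]⟩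

theorem main (c : Commute a b) (a3 : a ^ 3 = 1) (b3 : b ^ 3 = 1) {γ u : MulAut H} (h : Mx a b γ 1 2 1 1)
    (h' : Mx a b u 1 0 2 1) (k : ℕ) :
    Mx a b ((γ * (u * u) * (γ * γ)) ^ (2 * k + 1) * u) 2 0 0 1 ∧
      Mx a b (u ^ 2 * (γ * (u * u) * (γ * γ)) ^ (2 * k + 1)) 2 0 0 1 := by
  have h1 : Mx a b (u * u) 1 0 1 1 := h'.mul c a3 b3 h'
  have h2 : Mx a b (γ * (u * u) * (γ * γ)) 2 0 2 1 := (h.mul c a3 b3 h1).mul c a3 b3 (h.mul c a3 b3 h)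
  have h3 : Mx a b ((γ * (u * u) * (γ * γ)) ^ (2 * k + 1)) 2 0 2 1 := by
    induction k with
    | zero => rwa [mul_zero, zero_add, pow_one]
    | succ k ih =>
      rw [mul_add, mul_one, pow_succ, pow_succ]
      exact (ih.mul c a3 b3 h2).mul c a3 b3 h2
  exact ⟨h3.mul c a3 b3 h', sq u ▸ h1.mul c a3 b3 h3⟩

end Cfsg.Agent.Th3.Q9c

namespace Cfsg.Agent.Th3.Sy

open Cfsg.Agent.Spor Cfsg.Agent.Rec Cfsg.Agent.Fus Cfsg.FusionSystem Subgroup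
open scoped commutatorElement

variable {Ω : Type*} [Group Ω] {S : Subgroup Ω} (C : Sy S)

theorem q9c_facts : C.z1 ∈ C.Z2 ∧ C.z2 ∈ C.Z2 ∧ C.Z2 ≤ C.A0 ∧ C.A0 ≤ C.PP ∧ C.PP ≤ C.E1 ∧ C.z1 ∈ C.Z1 ∧
    C.z2 ^ 2 * C.z1 ∉ C.Z1 ∧ Commute C.z1 C.z2 ∧ C.z1 ^ 3 = 1 ∧ C.z2 ^ 3 = 1 ∧ C.x ^ 3 = 1 ∧
    C.x * C.z1 * C.x⁻¹ = C.z1 ∧ C.x * C.z2 * C.x⁻¹ = C.z1 ^ 2 * C.z2 := C.fo (by decide +kernel)

theorem q9c_Z2 {E : Subgroup Ω} {H : Subgroup E} {h1 : C.z1 ∈ E} {h2 : C.z2 ∈ E} (m1 : ⟨_, h1⟩ ∈ H)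
    (m2 : ⟨_, h2⟩ ∈ H) {z : Ω} (hz : z ∈ C.Z2) (hE : z ∈ E) : ⟨z, hE⟩ ∈ H := by
  have h := C.le_iff (H := H.map E.subtype)
  obtain ⟨y, hy, rfl⟩ := h.2.2.2.2.2.2.2.2.1.2 ⟨⟨_, m2, rfl⟩, h.2.2.2.2.2.2.2.2.2.1.2 ⟨_, m1, rfl⟩⟩ hz
  exact hy

variable [Finite S] [Fact (Nat.Prime 3)] {F : FusionSystem S} (hS : IsPGroup 3 S) (hF : F.IsSaturated 3)
include hS hF

theorem q9c_ext (hA : F.IsEssential 3 C.A0) :
    ∃ f, F.Mor C.PP f ∧ f C.z1 = C.z2 ^ 2 * C.z1 ∧ f C.z2 = C.z2 * C.z1 := by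
  obtain ⟨m1, m2, h1, -⟩ := C.q9c_facts
  obtain ⟨k, -, hk, e1, e2⟩ := C.q9 hS hF hA (K := ⊤) fun _ _ _ _ => mem_top _
  obtain ⟨β, hβ, e⟩ := (hA.receptive hF hS).extend_normalizerIn hk (C.q9_norm hS hF hA hk fun z hz => by
    rw [totA_apply _ (h1 hz)]
    refine C.q9c_Z2 (H := C.Z2.comap (C.A0.subtype.comp k.toMonoidHom)) (h1 := h1 m1) (h2 := h1 m2) ?_ ?_ hz _
    · exact mem_comap.2 (((totA_apply k (h1 m1)).symm.trans e1).symm ▸ mul_mem (pow_mem m2 2) m1 :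
        (k ⟨_, h1 m1⟩ : Ω) ∈ C.Z2)
    · exact mem_comap.2 (((totA_apply k (h1 m2)).symm.trans e2).symm ▸ mul_mem m2 m1 :
        (k ⟨_, h1 m2⟩ : Ω) ∈ C.Z2))
  exact ⟨_, (mor_totA normalizerIn_le hβ).mono C.normalizer_A0.ge, (e _ (h1 m1)).trans e1,
    (e _ (h1 m2)).trans e2⟩

theorem q9c_cases {R : Subgroup Ω} {f : Ω → Ω} (hf : F.Mor C.PP f) (hR : R = S ∨ F.IsEssential 3 R)
    (h : ∀ x ∈ C.PP, f x ∈ R) : R = S ∨ (F.IsEssential 3 R ∧ (R = C.E1 ∨ R = C.E2)) := by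
  refine hR.imp_right fun hR => ⟨hR, ?_⟩
  rcases C.ess_cases hS hF hR with e | e | ⟨-, e⟩
  · exact .inl e
  · exact .inr e
  · have := finite_of_le hR.le
    have := hf.card_le h
    rw [C.card_PP, e] at this
    omega

theorem ess1_of_A0 (hA : F.IsEssential 3 C.A0) : F.IsEssential 3 C.E1 := by
  by_contra hn
  obtain ⟨m1, -, h1, h2, -, h3, h4, -⟩ := C.q9c_facts
  obtain ⟨f, hf, e, -⟩ := C.q9c_ext hS hF hA
  refine h4 (e ▸ hF.alperin_induction hS (M := fun f => f C.z1 ∈ C.Z1) h3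
    (fun h e => e _ (h2 (h1 m1)) ▸ h) (fun {f R g} hf h hR hg hm => ?_) hf)
  obtain ⟨α, -, e⟩ := hg.exists_aut
  beta_reduce
  rw [← e _ (hm _ (h2 (h1 m1)))]
  rcases C.q9c_cases hS hF hf hR hm with rfl | ⟨hR, rfl | rfl⟩
  · exact (C.invS_Z1 ⊤).mem (mem_top α) h
  · exact absurd hR hn
  · exact (C.inv2Z1 ⊤).mem (mem_top α) h

theorem mor_PP (h2 : ¬ F.IsEssential 3 C.E2) {f : Ω → Ω} (hf : F.Mor C.PP f) :
    ∃ γ ∈ F.autGroup C.E1, ∀ a ∈ C.PP, f a = totA γ a := by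
  obtain ⟨-, -, -, -, h1, -⟩ := C.q9c_facts
  have := finite_of_le C.E1_le
  refine hF.alperin_induction hS (M := fun f => ∃ γ ∈ F.autGroup C.E1, ∀ a ∈ C.PP, f a = totA γ a)
    ⟨1, one_mem _, fun a ha => (totA_one (h1 ha)).symm⟩
    (fun ⟨γ, hγ, h⟩ e => ⟨γ, hγ, fun a ha => (e a ha).symm.trans (h a ha)⟩)
    (fun {f R g} hf ⟨γ, hγ, h⟩ hR hg hm => ?_) hf
  have h3 : F.Iso C.E1 C.E1 g := by
    rcases C.q9c_cases hS hF hf hR hm with rfl | ⟨hR, rfl | rfl⟩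
    · obtain ⟨α, -, e⟩ := hg.exists_aut
      exact (hg.mor.mono C.E1_le).iso_self fun x hx =>
        e x (C.E1_le hx) ▸ (C.invS_E1 ⊤).mem (mem_top α) hx
    · exact hg
    · exact absurd hR h2
  obtain ⟨α, hα, e⟩ := h3.exists_aut
  exact ⟨α * γ, mul_mem hα hγ, fun a ha => by
    rw [totA_mul _ _ (h1 ha), e _ (totA_mem _ (h1 ha)), ← h a ha]⟩

theorem beta2' (hA : F.IsEssential 3 C.A0) (h2 : ¬ F.IsEssential 3 C.E2) :
    ∃ β ∈ F.autGroup S, C.x * totA β C.x ∈ C.E1 := by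
  obtain ⟨m1, m2, h1, h3, h4, -, -, c, a3, b3, x3, x1, x2⟩ := C.q9c_facts
  have := finite_of_le C.E1_le
  have hE := C.ess1_of_A0 hS hF hA
  obtain ⟨f, hf, e1, e2⟩ := C.q9c_ext hS hF hA
  obtain ⟨γ, hγ, e⟩ := C.mor_PP hS hF h2 hf
  obtain ⟨c0, hc⟩ := C.sec1 hS hF hE
  have n1 := h4 (h3 (h1 m1))
  have n2 := h4 (h3 (h1 m2))
  have hu := hc.u_mem
  have hδ := mul_mem (mul_mem hγ (mul_mem hu hu)) (mul_mem hγ hγ)
  obtain ⟨n, hn, hn2⟩ := exists_pow_coprime 3 (γ * (cAut C.E1 C.x * cAut C.E1 C.x) * (γ * γ)) (k := 2) (by decide)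
  obtain ⟨k, rfl⟩ : ∃ k, n = 2 * k + 1 := ⟨n / 2, by unfold Nat.ModEq at hn2; omega⟩
  obtain ⟨k1, k2⟩ := Q9c.main (a := (⟨_, n1⟩ : C.E1)) (b := ⟨_, n2⟩) (Subtype.ext c) (Subtype.ext a3)
    (Subtype.ext b3) (γ := γ) (u := cAut C.E1 C.x)
    ⟨Subtype.ext (by
      rw [← totA_apply, ← e _ (h3 (h1 m1)), e1, ← (c.pow_right 2).eq]; simp),
      Subtype.ext (by rw [← totA_apply, ← e _ (h3 (h1 m2)), e2, ← c.eq]; simp)⟩
    ⟨Subtype.ext (by rw [coe_cAut C.x_mem.1.2]; simpa using x1),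
      Subtype.ext (by rw [coe_cAut C.x_mem.1.2]; simpa using x2)⟩ k
  have hδ' := pow_mem hδ (2 * k + 1)
  generalize (γ * (cAut C.E1 C.x * cAut C.E1 C.x) * (γ * γ)) ^ (2 * k + 1) = δ at hn k1 k2 hδ'
  have h5 : (cAut C.E1 C.x ^ 2 * δ)⁻¹ * (δ * cAut C.E1 C.x) ∈ Inn C.E1 := by
    refine hc.ker_inn _ (mul_mem (inv_mem (mul_mem (pow_mem hu 2) hδ')) (mul_mem hδ' hu))
      ⟨(C.inv1Z2 ⊤).le_stabA (mem_top _), fun z hz hz' => ?_⟩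
    have h6 : (cAut C.E1 C.x ^ 2 * δ) ⟨z, hz'⟩ = (δ * cAut C.E1 C.x) ⟨z, hz'⟩ := C.q9c_Z2
      (H := MonoidHom.eqLocus (cAut C.E1 C.x ^ 2 * δ).toMonoidHom (δ * cAut C.E1 C.x).toMonoidHom)
      (k2.1.trans k1.1.symm) (k2.2.trans k1.2.symm) hz hz'
    rw [mem_bot, inv_mul_eq_one, totA_apply _ hz', MulAut.mul_apply, ← h6, MulAut.inv_apply_self]
  have key : ∀ T, T = C.E1 ⊔ zpowers C.x → ∃ β ∈ F.autGroup T, totA β C.x * (C.x ^ 2)⁻¹ ∈ C.E1 := by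
    rintro _ rfl
    obtain ⟨β, hβ, -, -, h⟩ := (hE.receptive hF hS).extend_sup_zpowers hE.isCentric hδ' hn C.x_mem.1 (k := 2)
      (by
        have := (mem_normalizer_iff.1 (le_normalizer_inn ⊤ (mem_top (cAut C.E1 C.x ^ 2 * δ))) _).1 h5
        convert this using 1
        group)
    exact ⟨β, hβ, h⟩
  obtain ⟨β, hβ, h⟩ := key S C.E1_sup.symm
  refine ⟨β, hβ, ?_⟩
  have := conj_mem_of_mem_normalizerIn C.x_mem.1 h
  rwa [show C.x * (totA β C.x * (C.x ^ 2)⁻¹) * C.x⁻¹ = C.x * totA β C.x * (C.x ^ 3)⁻¹ by group, x3, inv_one,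
    mul_one] at this

end Cfsg.Agent.Th3.Sy
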