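import Mathlib
import Cfsg.Agent.Rec.FO
import Cfsg.Agent.Th3.Tab

/-!
The arithmetic of codes for a Sylow 3-subgroup of the Thompson group: the code `a < 3 ^ 10` with the digits
`a₉ … a₀` in base three names `g 9 ^ a₉ * … * g 0 ^ a₀`.
-/

set_option autoImplicit false

namespace Cfsg.Agent.Th3

open Cfsg.Agent.Spor Cfsg.Agent.Rec

/-- One level of the multiplication: `R j a` is the product of `a` with `j * N`, and `m` multiplies below `N`. -/
noncomputable def step (N : ℕ) (m R : ℕ → ℕ → ℕ) (a b : ℕ) : ℕ :=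
  force (R (Nat.div b N) a) fun c => force (Nat.mod c N) fun l => force (Nat.mod b N) fun b' =>
    Nat.add (Nat.sub c l) (m l b')

/-- Three cases. -/
noncomputable def sel (j a b c : ℕ) : ℕ := Nat.rec a (fun i _ => Nat.rec b (fun _ _ => c) i) j

/-- Multiplication below `3 ^ 5`. -/
def m5 (a b : ℕ) : ℕ := getP 8 255 tA (Nat.add (Nat.mul 243 b) a)

/-- Multiplication by the top two letters below `3 ^ 7`. -/
def r7 (j a : ℕ) : ℕ := getP 12 4095 tM (Nat.add (Nat.mul 2187 j) a)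

/-- Multiplication below `3 ^ 7`. -/
noncomputable def m7 : ℕ → ℕ → ℕ := step 243 m5 r7

/-- Multiplication by powers of letter 7. -/
noncomputable def r8 (j a : ℕ) : ℕ := sel j a (getP 13 8191 tR1 a) (getP 13 8191 tR2 a)

/-- Multiplication below `3 ^ 8`. -/
noncomputable def m8 : ℕ → ℕ → ℕ := step 2187 m7 r8

/-- Multiplication by powers of letter 8. -/
noncomputable def r9 (j a : ℕ) : ℕ :=
  sel j a (Nat.add (Nat.mul 6561 (Nat.mod (Nat.add (Nat.div a 6561) 1) 3)) (getP 13 8191 tY1 (Nat.mod a 6561)))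
    (Nat.add (Nat.mul 6561 (Nat.mod (Nat.add (Nat.div a 6561) 2) 3)) (getP 13 8191 tY2 (Nat.mod a 6561)))

/-- Multiplication below `3 ^ 9`. -/
noncomputable def m9 : ℕ → ℕ → ℕ := step 6561 m8 r9

/-- Multiplication by powers of letter 9. -/
noncomputable def r10 (j a : ℕ) : ℕ :=
  sel j a (Nat.add (Nat.mul 19683 (Nat.mod (Nat.add (Nat.div a 19683) 1) 3)) (getP 15 32767 tX1 (Nat.mod a 19683)))
    (Nat.add (Nat.mul 19683 (Nat.mod (Nat.add (Nat.div a 19683) 2) 3)) (getP 15 32767 tX2 (Nat.mod a 19683)))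

/-- Multiplication below `3 ^ 10`. -/
noncomputable def m10 : ℕ → ℕ → ℕ := step 19683 m9 r10

/-- Multiplication of codes. -/
noncomputable def mul (a b : ℕ) : ℕ :=
  force (Nat.add a (Nat.sub b a)) fun c =>
    ifLt c 2187 (ifLt c 243 (m5 a b) (m7 a b)) (ifLt c 19683 (ifLt c 6561 (m8 a b) (m9 a b)) (m10 a b))

/-- Inversion of codes. -/
noncomputable def inv (a : ℕ) : ℕ :=
  force (getP 15 32767 tI (Nat.mod a 19683)) fun c => r10 (Nat.mod (Nat.mul 2 (Nat.div a 19683)) 3) c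

/-- The arithmetic of codes. -/
noncomputable def ar : Ar := ⟨mul, inv, 0⟩

/-- The normal form `g (n - 1) ^ aₙ₋₁ * … * g 0 ^ a₀`. -/
def nfL {G : Type*} [Group G] (g : ℕ → G) : ℕ → ℕ → G
  | 0, _ => 1
  | n + 1, a => g n ^ (a / 3 ^ n % 3) * nfL g n a

/-- The element named by the code `a`. -/
def nf {G : Type*} [Group G] (g : ℕ → G) (a : ℕ) : G := nfL g 10 a

/-- The codes of the cubes of the letters. -/
def qq (n : ℕ) : ℕ := [0, 0, 0, 0, 0, 1, 0, 7, 0, 0].getD n 0

/-- The code of the conjugate of letter `t` by letter `n`. -/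
def cc (n t : ℕ) : ℕ :=
  ([[], [1], [1, 3], [1, 3, 9], [1, 3, 9, 27], [1, 3, 9, 28, 86], [1, 3, 9, 27, 82, 261],
    [1, 3, 10, 33, 81, 258, 770], [1, 3, 12, 31, 86, 293, 860, 2268],
    [1, 4, 9, 36, 108, 268, 730, 2430, 8748]].getD n []).getD t 0

/-- The defining relations. -/
structure Rel {G : Type*} [Group G] (g : ℕ → G) : Prop where
  conj : ∀ n < 10, ∀ t < n, g t * g n = g n * nf g (cc n t)
  cube : ∀ n < 10, g n ^ 3 = nf g (qq n)
  ne : g 0 ≠ 1

end Cfsg.Agent.Th3
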