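import Mathlib
import Cfsg.Agent.Th3.Chk

/-! The table of the centric subgroups up to conjugacy -/

set_option autoImplicit false
set_option maxRecDepth 100000

namespace Cfsg.Agent.Th3

open Cfsg.Agent.Spor

/-- The packed lists. -/
noncomputable def ntB : BT :=
(.node (.node (.node (.node (.node (.node (.node (.node (.node (.node (.node (.leaf (nat_lit 0x100030009001b005100f302d9088b19a14ce3))
(.leaf (nat_lit 0x1000300090f811b36)))
(.leaf (nat_lit 0x10003001b00510d5c2058)))
(.node (.node (.leaf (nat_lit 0x10003001b005104d1089d))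
(.leaf (nat_lit 0x10003000903e74fa1)))
(.leaf (nat_lit 0x10003001b0573089d))))
(.node (.node (.node (.leaf (nat_lit 0x10003001b005104bf089d19a1))
(.leaf (nat_lit 0x100030009010e4dbb)))
(.leaf (nat_lit 0x100030009010e0e8e4ce3)))
(.node (.node (.leaf (nat_lit 0x100030009001b0e3d19a1))
(.leaf (nat_lit 0x10003018c0bac85d7)))
(.leaf (nat_lit 0x10003009903e71aca)))))
(.node (.node (.node (.node (.leaf (nat_lit 0x100030009001b00f302d9088b))
(.leaf (nat_lit 0x10003006c0b6d204f)))
(.leaf (nat_lit 0x100030009001b05614ce3)))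
(.node (.node (.leaf (nat_lit 0x100030024006304d11b90))
(.leaf (nat_lit 0x10009012f02d94d8b)))
(.leaf (nat_lit 0x10003002401951c7a))))
(.node (.node (.node (.leaf (nat_lit 0x100030009001b00f30c065337))
(.leaf (nat_lit 0x10009001b02dc4d88)))
(.leaf (nat_lit 0x10003002400630b76)))
(.node (.leaf (nat_lit 0x100030009006c0b641f53))
(.leaf (nat_lit 0x10003002d0edf19aa))))))
(.node (.node (.node (.node (.node (.leaf (nat_lit 0x100030009001b005100f3088b5295))
(.leaf (nat_lit 0x1000300870d5c1f53)))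
(.leaf (nat_lit 0x100030009001b00515295)))
(.node (.node (.leaf (nat_lit 0x10003001b005a00f31f65))
(.leaf (nat_lit 0x1000900f302d94d8b)))
(.leaf (nat_lit 0x100030009001b2139))))
(.node (.node (.node (.leaf (nat_lit 0x100030009001b00f302d94d85))
(.leaf (nat_lit 0x100030009012952e6)))
(.leaf (nat_lit 0x100030009001b02d9)))
(.node (.node (.leaf (nat_lit 0x100030009001b0f301b87))
(.leaf (nat_lit 0x1000900f3533a)))
(.leaf (nat_lit 0x100030075088b1f53)))))
(.node (.node (.node (.node (.leaf (nat_lit 0x100030009001b00f30e3d19a1))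
(.leaf (nat_lit 0x10003009908c11cb0)))
(.leaf (nat_lit 0x10009001e019502d94ce6)))
(.node (.node (.leaf (nat_lit 0x10003001b0051088b19a1))
(.leaf (nat_lit 0x10009011102df4dbb)))
(.leaf (nat_lit 0x10003006304f51ba2))))
(.node (.node (.node (.leaf (nat_lit 0x100030009001b0144092d))
(.leaf (nat_lit 0x10009002104bf4d8b)))
(.leaf (nat_lit 0x10003005a01050b76)))
(.node (.leaf (nat_lit 0x10003002d00510c572139))
(.leaf (nat_lit 0x1000300090f661b87)))))))
(.node (.node (.node (.node (.node (.node (.leaf (nat_lit 0x100030009001b005100f3088b19a1))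
(.leaf (nat_lit 0x10003006c0b6d1f65)))
(.leaf (nat_lit 0x10003002d0063088b1e60)))
(.node (.node (.leaf (nat_lit 0x100030009001b01441a43))
(.leaf (nat_lit 0x100090021041d4f6b)))
(.leaf (nat_lit 0x10003001b00511a94))))
(.node (.node (.node (.leaf (nat_lit 0x100030024006302d9088b1a94))
(.leaf (nat_lit 0x10003000900f35295)))
(.leaf (nat_lit 0x100030009001b014485d7)))
(.node (.node (.leaf (nat_lit 0x100030009001b102319a1))
(.leaf (nat_lit 0x1000300630b6d)))
(.leaf (nat_lit 0x100030051089d19a1)))))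
(.node (.node (.node (.node (.leaf (nat_lit 0x100030009001b005104bf1a94))
(.leaf (nat_lit 0x1000300510c57204f)))
(.leaf (nat_lit 0x10003000900f302d94ce3)))
(.node (.node (.leaf (nat_lit 0x10003002d005103cc19a1))
(.leaf (nat_lit 0x10009012c02df4d88)))
(.leaf (nat_lit 0x10003005104bf19b3))))
(.node (.node (.node (.leaf (nat_lit 0x100030009001b005100f36c36))
(.leaf (nat_lit 0x10009001b03304ce3)))
(.leaf (nat_lit 0x100030009015f0c3c)))
(.node (.leaf (nat_lit 0x10003000900870d4a1f53))
(.leaf (nat_lit 0x10003002d10c519a1))))))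
(.node (.node (.node (.node (.node (.leaf (nat_lit 0x100030009001b005100f30e3d8025))
(.leaf (nat_lit 0x1000300510c572139)))
(.leaf (nat_lit 0x100030009001b032a4d85)))
(.node (.node (.leaf (nat_lit 0x100030009006c02d919d7))
(.leaf (nat_lit 0x1000900f302df4d88)))
(.leaf (nat_lit 0x10003001b01562007))))
(.node (.node (.node (.leaf (nat_lit 0x100030009001b00f308dc4d85))
(.leaf (nat_lit 0x10009001e01984fbf)))
(.leaf (nat_lit 0x100030009010e08c1)))
(.node (.node (.leaf (nat_lit 0x10003002d00630f3019a1))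
(.leaf (nat_lit 0x10003018c85d7)))
(.leaf (nat_lit 0x10003007e08c1216f)))))
(.node (.node (.node (.node (.leaf (nat_lit 0x100030009001b00510c572046))
(.leaf (nat_lit 0x100030090088b1da3)))
(.leaf (nat_lit 0x10009001b014402df4d88)))
(.node (.node (.leaf (nat_lit 0x10003002d0063088b1f53))
(.leaf (nat_lit 0x1000c00f90e3d4ce3)))
(.leaf (nat_lit 0x10003006c02e21a94))))
(.node (.node (.node (.leaf (nat_lit 0x10003001b005101050b64))
(.leaf (nat_lit 0x10003000904f54d34)))
(.leaf (nat_lit 0x10003002402d90894)))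
(.node (.leaf (nat_lit 0x10003002d00510c571f53))
(.leaf (nat_lit 0x1000300240e971b3f))))))))
(.node (.node (.node (.node (.node (.node (.node (.leaf (nat_lit 0x100030009001b005100f3088b1f535295))
(.leaf (nat_lit 0x10003001b10d71a94)))
(.leaf (nat_lit 0x10003001b0063088b1c7a)))
(.node (.node (.leaf (nat_lit 0x100030024006303cc0a7a))
(.leaf (nat_lit 0x10009001e03d24f71)))
(.leaf (nat_lit 0x100030024046e0a7a))))
(.node (.node (.node (.leaf (nat_lit 0x100030024006303cc0a7119b3))
(.leaf (nat_lit 0x10009001b01444d8b)))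
(.leaf (nat_lit 0x100030009010e0b6452e6)))
(.node (.node (.leaf (nat_lit 0x100030009001b0e3d1b87))
(.leaf (nat_lit 0x10003000900f3)))
(.leaf (nat_lit 0x10003005a04f51aca)))))
(.node (.node (.node (.node (.leaf (nat_lit 0x100030009001b005102d919a1))
(.leaf (nat_lit 0x1000300510c601f53)))
(.leaf (nat_lit 0x100030009001b03cc4f6b)))
(.node (.node (.leaf (nat_lit 0x10003001b005102d91a94))
(.leaf (nat_lit 0x10009012902d94d88)))
(.leaf (nat_lit 0x10003007e02f419a1))))
(.node (.node (.node (.leaf (nat_lit 0x100030009001b00f3092d4fbc))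
(.leaf (nat_lit 0x10009001b032a4d8b)))
(.leaf (nat_lit 0x10003000901950b64)))
(.node (.leaf (nat_lit 0x100030009006c0b642139))
(.leaf (nat_lit 0x10003001b0edf1b99))))))
(.node (.node (.node (.node (.node (.leaf (nat_lit 0x100030009001b00f302d908dc4d85))
(.leaf (nat_lit 0x1000300870d4a214b)))
(.leaf (nat_lit 0x100030009001b00f3505e)))
(.node (.node (.leaf (nat_lit 0x100030024005a00f31c7a))
(.leaf (nat_lit 0x1000900f902dc4d8b)))
(.leaf (nat_lit 0x10003001b00f31f53))))
(.node (.node (.node (.leaf (nat_lit 0x100030009001b0144037b4ce3))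
(.leaf (nat_lit 0x10003000900f3505e)))
(.leaf (nat_lit 0x100030009019502d9)))
(.node (.node (.leaf (nat_lit 0x100030009001b0e8e1b36))
(.leaf (nat_lit 0x1000902d94d34)))
(.leaf (nat_lit 0x10003007508a61f89)))))
(.node (.node (.node (.node (.leaf (nat_lit 0x100030009001b01440e8e1a43))
(.leaf (nat_lit 0x100030087089d1e60)))
(.leaf (nat_lit 0x10009001b014402d94d85)))
(.node (.node (.leaf (nat_lit 0x10003001b0063088b1a94))
(.leaf (nat_lit 0x10009011102d94dbe)))
(.leaf (nat_lit 0x10003008703d51b90))))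
(.node (.node (.node (.leaf (nat_lit 0x100030009005100f30e3d))
(.leaf (nat_lit 0x10009002105674ce9)))
(.leaf (nat_lit 0x10003005a00fc0b64)))
(.node (.leaf (nat_lit 0x10003002400630b762046))
(.leaf (nat_lit 0x1000300240e3d1a94)))))))
(.node (.node (.node (.node (.node (.node (.leaf (nat_lit 0x100030009001b005104bf088b1b87))
(.leaf (nat_lit 0x10003006c0b76214b)))
(.leaf (nat_lit 0x100030024006308941d6d)))
(.node (.node (.leaf (nat_lit 0x100030009001b00512046))
(.leaf (nat_lit 0x10009001e04204ec9)))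
(.leaf (nat_lit 0x10003002d019519aa))))
(.node (.node (.node (.leaf (nat_lit 0x100030024006302e2088b1aa6))
(.leaf (nat_lit 0x10009002100f95337)))
(.leaf (nat_lit 0x10003000901b00bb56cd8)))
(.node (.node (.leaf (nat_lit 0x100030009001b10231b87))
(.leaf (nat_lit 0x10003002d2139)))
(.leaf (nat_lit 0x100030063088b1aca)))))
(.node (.node (.node (.node (.leaf (nat_lit 0x100030009001b00510e3d1b87))
(.leaf (nat_lit 0x1000300870d532058)))
(.leaf (nat_lit 0x10009001b00f302df4d85)))
(.node (.node (.leaf (nat_lit 0x100030024005103cc1a94))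
(.leaf (nat_lit 0x10009010e02df4dc1)))
(.leaf (nat_lit 0x10003006304bf1b87))))
(.node (.node (.node (.leaf (nat_lit 0x100030009001b005103cc))
(.leaf (nat_lit 0x10003000904f54ce3)))
(.leaf (nat_lit 0x10003005100fc0b76)))
(.node (.leaf (nat_lit 0x10003001b00510d5c2139))
(.leaf (nat_lit 0x100030024102c1b90))))))
(.node (.node (.node (.node (.node (.leaf (nat_lit 0x100030009001b005100f3088b695d))
(.leaf (nat_lit 0x1000300510c692142)))
(.leaf (nat_lit 0x10009001b005102df4ce9)))
(.node (.node (.leaf (nat_lit 0x10003002d005104bf19b3))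
(.leaf (nat_lit 0x1000900f902dc4d88)))
(.leaf (nat_lit 0x10003002d005a1e72))))
(.node (.node (.node (.leaf (nat_lit 0x100030009001b00f30e8e4d85))
(.leaf (nat_lit 0x10009001b02df4ce3)))
(.leaf (nat_lit 0x10003000900f30edf)))
(.node (.node (.leaf (nat_lit 0x100030009001b10231a94))
(.leaf (nat_lit 0x101e06684)))
(.leaf (nat_lit 0x10003006c08942046)))))
(.node (.node (.node (.node (.leaf (nat_lit 0x10003001b005101050b761f65))
(.leaf (nat_lit 0x10009001b00514ce3)))
(.leaf (nat_lit 0x100030009010e088b5337)))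
(.node (.node (.leaf (nat_lit 0x100030009006c088b2046))
(.leaf (nat_lit 0x10009010e0e8e4d88)))
(.leaf (nat_lit 0x10003009003cc19bc))))
(.node (.node (.node (.leaf (nat_lit 0x100030024006302d90894))
(.leaf (nat_lit 0x10009001e05614d34)))
(.leaf (nat_lit 0x10003001b04bf088b)))
(.node (.leaf (nat_lit 0x10003002d00510c692046))
(.leaf (nat_lit 0x1000300750f3919e0)))))))))
(.node (.node (.node (.node (.node (.node (.node (.node (.leaf (nat_lit 0x100030009001b005100f302d9088b6684))
(.leaf (nat_lit 0x10003001b10231aa6)))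
(.leaf (nat_lit 0x10003001b00510d4a204f)))
(.node (.node (.leaf (nat_lit 0x100030009001b03cc0b13))
(.leaf (nat_lit 0x10009002103cc4f6b)))
(.leaf (nat_lit 0x10003002403cc0b13))))
(.node (.node (.node (.leaf (nat_lit 0x10003001b005104d1089d19a1))
(.leaf (nat_lit 0x10009001e01954ce3)))
(.leaf (nat_lit 0x100030009010e0b645337)))
(.node (.node (.leaf (nat_lit 0x10003002d00510e3d19b3))
(.leaf (nat_lit 0x1000300090195695d)))
(.leaf (nat_lit 0x10003009904021aaf)))))
(.node (.node (.node (.node (.leaf (nat_lit 0x100030009001b014402d9092d))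
(.leaf (nat_lit 0x1000300510c691f53)))
(.leaf (nat_lit 0x100030009001b05104ce3)))
(.node (.node (.leaf (nat_lit 0x10003001b005103de1b87))
(.leaf (nat_lit 0x10009012c02d94d8b)))
(.leaf (nat_lit 0x10003002401441d25))))
(.node (.node (.node (.leaf (nat_lit 0x100030009001b00f30bb552e6))
(.leaf (nat_lit 0x10009001b037b4d85)))
(.leaf (nat_lit 0x100030009010e0b9a)))
(.node (.leaf (nat_lit 0x10003002400630b641f53))
(.leaf (nat_lit 0x10003001b0e3d1b87))))))
(.node (.node (.node (.node (.node (.leaf (nat_lit 0x100030009001b00f302d9088b4ce3))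
(.leaf (nat_lit 0x1000300870d531f53)))
(.leaf (nat_lit 0x100030009001b01445337)))
(.node (.node (.leaf (nat_lit 0x100030009001b00f31c7a))
(.leaf (nat_lit 0x1000900f902d94d85)))
(.leaf (nat_lit 0x10003000900512046))))
(.node (.node (.node (.leaf (nat_lit 0x100030009001b019502d94ce3))
(.leaf (nat_lit 0x10009001b00574fbc)))
(.leaf (nat_lit 0x100030009005103cc)))
(.node (.node (.leaf (nat_lit 0x10003000900870f301b87))
(.leaf (nat_lit 0x1000902df4ce3)))
(.leaf (nat_lit 0x10003007508c11f6e)))))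
(.node (.node (.node (.node (.leaf (nat_lit 0x100030009001b01950edf19a1))
(.leaf (nat_lit 0x10003009908a61c95)))
(.leaf (nat_lit 0x10009001e019802d94ce6)))
(.node (.node (.leaf (nat_lit 0x10003002d0051088b19b3))
(.leaf (nat_lit 0x10009010e02dc4dbb)))
(.leaf (nat_lit 0x10003008703de1b99))))
(.node (.node (.node (.leaf (nat_lit 0x100030009001b00f30edf))
(.leaf (nat_lit 0x10009001e04c54d8b)))
(.leaf (nat_lit 0x10003005100fc0b6d)))
(.node (.leaf (nat_lit 0x100030009006c0b642046))
(.leaf (nat_lit 0x1000300090fed1bbd)))))))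
(.node (.node (.node (.node (.node (.node (.leaf (nat_lit 0x100030009001b005100f3088b1c7a))
(.leaf (nat_lit 0x10003006c0b761f5c)))
(.leaf (nat_lit 0x10003002d0051088b1d7f)))
(.node (.node (.leaf (nat_lit 0x10003002d005a00f319b3))
(.leaf (nat_lit 0x10003000904024f1a)))
(.leaf (nat_lit 0x10003002d00f319b3))))
(.node (.node (.node (.leaf (nat_lit 0x100030024006302d908941aa6))
(.leaf (nat_lit 0x10003000901295337)))
(.leaf (nat_lit 0x100030009017a0b7f860d)))
(.node (.node (.leaf (nat_lit 0x10003002d0051102319b3))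
(.leaf (nat_lit 0x1000301d40b76)))
(.leaf (nat_lit 0x100030051089419a1)))))
(.node (.node (.node (.node (.leaf (nat_lit 0x100030009001b0051088b1f53))
(.leaf (nat_lit 0x1000300870d4a2046)))
(.leaf (nat_lit 0x100030009012902d94d85)))
(.node (.node (.leaf (nat_lit 0x100030024006303d519aa))
(.leaf (nat_lit 0x10009012f02df4d88)))
(.leaf (nat_lit 0x10003005104bf19aa))))
(.node (.node (.node (.leaf (nat_lit 0x100030009001b01950bb56cd8))
(.leaf (nat_lit 0x10009001b037b4d34)))
(.leaf (nat_lit 0x10003005100f30b64)))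
(.node (.leaf (nat_lit 0x10003002d00630d4a1f53))
(.leaf (nat_lit 0x10003002d10741a55))))))
(.node (.node (.node (.node (.node (.leaf (nat_lit 0x100030009001b005100f3088b6684))
(.leaf (nat_lit 0x1000300510c60214b)))
(.leaf (nat_lit 0x100030009001b037b4d34)))
(.node (.node (.leaf (nat_lit 0x10003001b005104bf19a1))
(.leaf (nat_lit 0x1000900f602dc4d88)))
(.leaf (nat_lit 0x10003002400631c7a))))
(.node (.node (.node (.leaf (nat_lit 0x100030009001b00f30e3d4ce3))
(.leaf (nat_lit 0x10003000900f3500d)))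
(.leaf (nat_lit 0x10003001b005a0e4f)))
(.node (.node (.leaf (nat_lit 0x100030009001b0f811b36))
(.leaf (nat_lit 0x100030195695d)))
(.leaf (nat_lit 0x10003006c089d2046)))))
(.node (.node (.node (.node (.leaf (nat_lit 0x10003001b005100f30b761f53))
(.leaf (nat_lit 0x100030090088b1d88)))
(.leaf (nat_lit 0x10003000900f3088b4ce3)))
(.node (.node (.leaf (nat_lit 0x10003002d0051088b214b))
(.leaf (nat_lit 0x1000f012f0edf4ce9)))
(.leaf (nat_lit 0x10003009003cc19d7))))
(.node (.node (.node (.leaf (nat_lit 0x100030009001b02d9092d))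
(.leaf (nat_lit 0x10009001e05134ce3)))
(.leaf (nat_lit 0x10003002402e20936)))
(.node (.leaf (nat_lit 0x10003000900510c572046))
(.leaf (nat_lit 0x1000300750f3919e9))))))))
(.node (.node (.node (.node (.node (.node (.node (.leaf (nat_lit 0x100030009001b005100f3088b1c7a4fbc))
(.leaf (nat_lit 0x10003006c0b641f53)))
(.leaf (nat_lit 0x1000300090087088b1e60)))
(.node (.node (.leaf (nat_lit 0x100030009001b00511b87))
(.leaf (nat_lit 0x10009001b04744ecf)))
(.leaf (nat_lit 0x10003002d006319a1))))
(.node (.node (.node (.leaf (nat_lit 0x100030024006303de0a7119b3))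
(.leaf (nat_lit 0x100030009010e4d6a)))
(.leaf (nat_lit 0x1000300090129088b4fbc)))
(.node (.node (.leaf (nat_lit 0x10003001b00510e3d1b99))
(.leaf (nat_lit 0x10003000903cc)))
(.leaf (nat_lit 0x10003005a04da1aaf)))))
(.node (.node (.node (.node (.leaf (nat_lit 0x100030009001b005103cc1b87))
(.leaf (nat_lit 0x1000300510c572058)))
(.leaf (nat_lit 0x100030009001b03cc4f1a)))
(.node (.node (.leaf (nat_lit 0x100030024006302d91aa6))
(.leaf (nat_lit 0x10009012c02d94d85)))
(.leaf (nat_lit 0x10003007e030f19a1))))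
(.node (.node (.node (.leaf (nat_lit 0x100030009001b01440b6485d7))
(.leaf (nat_lit 0x10009002102d94d34)))
(.leaf (nat_lit 0x10003001b01950b76)))
(.node (.leaf (nat_lit 0x10003002400630b642139))
(.leaf (nat_lit 0x10003001b0ea01c29))))))
(.node (.node (.node (.node (.node (.leaf (nat_lit 0x100030009001b00f3032a08dc4d85))
(.leaf (nat_lit 0x1000300870d4a2142)))
(.leaf (nat_lit 0x100030009001b02d94ce3)))
(.node (.node (.leaf (nat_lit 0x10003001b006302d919a1))
(.leaf (nat_lit 0x1000900f602dc4d8b)))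
(.leaf (nat_lit 0x10003001b01951f65))))
(.node (.node (.node (.leaf (nat_lit 0x100030009001b00f3032a4d34))
(.leaf (nat_lit 0x10009001b00f35064)))
(.leaf (nat_lit 0x10003002d0051088b)))
(.node (.node (.leaf (nat_lit 0x10003002400630e461a9d))
(.leaf (nat_lit 0x1000904024f6b)))
(.leaf (nat_lit 0x10003007e08a62154)))))
(.node (.node (.node (.node (.leaf (nat_lit 0x100030009001b00510d4a2139))
(.leaf (nat_lit 0x10003008708941e60)))
(.leaf (nat_lit 0x10009001b014402dc4d8b)))
(.node (.node (.leaf (nat_lit 0x100030024006308941a94))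
(.leaf (nat_lit 0x10009011402d94dbe)))
(.leaf (nat_lit 0x10003006c02eb1a94))))
(.node (.node (.node (.leaf (nat_lit 0x100030009001b01440c06))
(.leaf (nat_lit 0x10009001b05104d85)))
(.leaf (nat_lit 0x10003006300fc0b64)))
(.node (.leaf (nat_lit 0x10003000900510c571f53))
(.leaf (nat_lit 0x1000300240edf1a9d)))))))
(.node (.node (.node (.node (.node (.node (.leaf (nat_lit 0x100030009001b005103cc088b1a94))
(.leaf (nat_lit 0x10003006c0b6d2142)))
(.leaf (nat_lit 0x100030009001b00f34d85)))
(.node (.node (.leaf (nat_lit 0x10003001b005100f31f53))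
(.leaf (nat_lit 0x10009001e046e4f1a)))
(.leaf (nat_lit 0x10003000900871f53))))
(.node (.node (.node (.leaf (nat_lit 0x100030009001b005102d94ce3))
(.leaf (nat_lit 0x10009001b01445337)))
(.leaf (nat_lit 0x100030009001b00f3)))
(.node (.node (.leaf (nat_lit 0x100030024005a10231b87))
(.leaf (nat_lit 0x1000901144dc1)))
(.leaf (nat_lit 0x100030063088b1aaf)))))
(.node (.node (.node (.node (.leaf (nat_lit 0x100030009001b00510e3d1a94))
(.leaf (nat_lit 0x1000300870d5c204f)))
(.leaf (nat_lit 0x10009002100f302d94d8b)))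
(.node (.node (.leaf (nat_lit 0x100030009005104bf1a94))
(.leaf (nat_lit 0x10009011402df4dbb)))
(.leaf (nat_lit 0x10003006304da1bbd))))
(.node (.node (.node (.leaf (nat_lit 0x100030009005100f302d9))
(.leaf (nat_lit 0x10003000904da4dbb)))
(.leaf (nat_lit 0x10003006301050b76)))
(.node (.leaf (nat_lit 0x10003000900510c572139))
(.leaf (nat_lit 0x10003002410741c29))))))
(.node (.node (.node (.node (.node (.leaf (nat_lit 0x100030009001b005100f30b64))
(.leaf (nat_lit 0x10003006c0b762058)))
(.leaf (nat_lit 0x10009001b005702dc4ce9)))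
(.node (.node (.leaf (nat_lit 0x100030009005104bf1b87))
(.leaf (nat_lit 0x10009012902df4d85)))
(.leaf (nat_lit 0x10003002400511d7f))))
(.node (.node (.node (.leaf (nat_lit 0x100030009001b00f30edf4d34))
(.leaf (nat_lit 0x10009001b02dc4d8b)))
(.leaf (nat_lit 0x10003000900510b64)))
(.node (.leaf (nat_lit 0x10003001b005110231aa6))
(.leaf (nat_lit 0x10003002d0e3d19b3)))))
(.node (.node (.node (.node (.leaf (nat_lit 0x100030009001b0051088b1e60))
(.leaf (nat_lit 0x10003000901294ce3)))
(.leaf (nat_lit 0x10003000901290edf4ce3)))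
(.node (.node (.leaf (nat_lit 0x1000300240063088b2058))
(.leaf (nat_lit 0x10003000901448025)))
(.leaf (nat_lit 0x10003009903cc1a94))))
(.node (.node (.node (.leaf (nat_lit 0x100030009001b04bf092d))
(.leaf (nat_lit 0x10003000904024ec9)))
(.leaf (nat_lit 0x10003001b04bf093f)))
(.node (.leaf (nat_lit 0x10003000900870d4a2046))
(.leaf (nat_lit 0x1000300090f4b1aca))))))))))
(.node (.node (.node (.node (.node (.node (.node (.node (.node (.leaf (nat_lit 0x100030009001b005100f302d9088b4ce3))
(.leaf (nat_lit 0x1000300090f9c1b6c)))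
(.leaf (nat_lit 0x10003002d00630d4a2046)))
(.node (.node (.leaf (nat_lit 0x10003001b005a04bf089d))
(.leaf (nat_lit 0x10009001b03cc4f71)))
(.leaf (nat_lit 0x10003002403cc0a7a))))
(.node (.node (.node (.leaf (nat_lit 0x10003001b005104bf089419b3))
(.leaf (nat_lit 0x10009001b00f34d8b)))
(.leaf (nat_lit 0x10003000901290edf4d34)))
(.node (.node (.leaf (nat_lit 0x100030009001b0e8e1a43))
(.leaf (nat_lit 0x10003000901cb6684)))
(.leaf (nat_lit 0x10003009903e71a94)))))
(.node (.node (.node (.node (.leaf (nat_lit 0x100030009001b00f3037b088b))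
(.leaf (nat_lit 0x1000300510c571f53)))
(.leaf (nat_lit 0x100030009001b05104d85)))
(.node (.node (.leaf (nat_lit 0x10003001b005103cc1b87))
(.leaf (nat_lit 0x10009012f02df4d8b)))
(.leaf (nat_lit 0x100030024019e1c83))))
(.node (.node (.node (.leaf (nat_lit 0x100030009001b00f30b6452e6))
(.leaf (nat_lit 0x10009001b037b4ce9)))
(.leaf (nat_lit 0x10003000900f30b64)))
(.node (.leaf (nat_lit 0x10003001b00510b641f65))
(.leaf (nat_lit 0x10003002d0e8e1a55))))))
(.node (.node (.node (.node (.node (.leaf (nat_lit 0x100030009001b005100f30b645295))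
(.leaf (nat_lit 0x1000300870d531f65)))
(.leaf (nat_lit 0x100030009001b00f35337)))
(.node (.node (.leaf (nat_lit 0x100030009001b00511e60))
(.leaf (nat_lit 0x1000900f302df4d8b)))
(.leaf (nat_lit 0x10003002d00632139))))
(.node (.node (.node (.leaf (nat_lit 0x100030009001b00f3037b4d85))
(.leaf (nat_lit 0x10009001b00514fbc)))
(.leaf (nat_lit 0x100030009005104bf)))
(.node (.node (.leaf (nat_lit 0x100030009001b0f811c29))
(.leaf (nat_lit 0x1000901295064)))
(.leaf (nat_lit 0x10003007508a61f53)))))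
(.node (.node (.node (.node (.leaf (nat_lit 0x100030009001b00f30e8e1a43))
(.leaf (nat_lit 0x100030099088b1c95)))
(.leaf (nat_lit 0x10009001e019502dc4ce6)))
(.node (.node (.leaf (nat_lit 0x10003001b0051089d19b3))
(.leaf (nat_lit 0x10009011102dc4dc1)))
(.leaf (nat_lit 0x10003008703cc1b99))))
(.node (.node (.node (.leaf (nat_lit 0x100030009001b00510e3d))
(.leaf (nat_lit 0x10009001e04bf4d8b)))
(.leaf (nat_lit 0x10003005100f30b6d)))
(.node (.leaf (nat_lit 0x10003002d00510c60214b))
(.leaf (nat_lit 0x1000300090fd21b87)))))))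
(.node (.node (.node (.node (.node (.node (.leaf (nat_lit 0x100030009001b005100f30e3d19a1))
(.leaf (nat_lit 0x10003006c0b6d1f53)))
(.leaf (nat_lit 0x10003001b005a088b1d6d)))
(.node (.node (.leaf (nat_lit 0x10003002d005100f319b3))
(.leaf (nat_lit 0x100090021041d4f6e)))
(.leaf (nat_lit 0x10003002400631a94))))
(.node (.node (.node (.leaf (nat_lit 0x100030024006302d9089d1a94))
(.leaf (nat_lit 0x100030009010e52cb)))
(.leaf (nat_lit 0x100030009017a0b6485d7)))
(.node (.node (.leaf (nat_lit 0x100030009001b10741a43))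
(.leaf (nat_lit 0x1000301290b76)))
(.leaf (nat_lit 0x100030051089419b3)))))
(.node (.node (.node (.node (.leaf (nat_lit 0x100030009001b0051088b1b87))
(.leaf (nat_lit 0x1000300510c60204f)))
(.leaf (nat_lit 0x100030009010e02d94d19)))
(.node (.node (.leaf (nat_lit 0x100030009008703cc19a1))
(.leaf (nat_lit 0x10009012f02dc4d85)))
(.leaf (nat_lit 0x10003005104d119b3))))
(.node (.node (.node (.leaf (nat_lit 0x100030009001b01950b646c36))
(.leaf (nat_lit 0x10009001b032a4d3a)))
(.leaf (nat_lit 0x10003001b01440c18)))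
(.node (.leaf (nat_lit 0x10003001b00510d5c1f53))
(.leaf (nat_lit 0x10003002d10c519aa))))))
(.node (.node (.node (.node (.node (.leaf (nat_lit 0x100030009001b005100f3088b82fe))
(.leaf (nat_lit 0x1000300510c692139)))
(.leaf (nat_lit 0x100030009001b032a4ce3)))
(.node (.node (.leaf (nat_lit 0x10003002d006302d91b87))
(.leaf (nat_lit 0x1000900f602d94d88)))
(.leaf (nat_lit 0x10003001b00631c7a))))
(.node (.node (.node (.leaf (nat_lit 0x100030009001b00f3088b5337))
(.leaf (nat_lit 0x10009001b01445064)))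
(.leaf (nat_lit 0x1000300090144092d)))
(.node (.node (.leaf (nat_lit 0x100030009001b0f301a94))
(.leaf (nat_lit 0x1000301dd6684)))
(.leaf (nat_lit 0x10003006c088b2046)))))
(.node (.node (.node (.node (.leaf (nat_lit 0x10003001b005100f30b641f53))
(.leaf (nat_lit 0x10003009008c11da3)))
(.leaf (nat_lit 0x100030009012902d94d34)))
(.node (.node (.leaf (nat_lit 0x10003001b0063088b2139))
(.leaf (nat_lit 0x1000c00f90e434ce3)))
(.leaf (nat_lit 0x10003006c02eb1a9d))))
(.node (.node (.node (.leaf (nat_lit 0x10003001b005a00f30b76))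
(.leaf (nat_lit 0x10009001e05104ce3)))
(.leaf (nat_lit 0x10003002402d9092d)))
(.node (.leaf (nat_lit 0x10003002d00510c601f65))
(.leaf (nat_lit 0x1000300750f4219d7))))))))
(.node (.node (.node (.node (.node (.node (.node (.leaf (nat_lit 0x100030009001b005100f3088b19a14fbc))
(.leaf (nat_lit 0x10003001b10741b48)))
(.leaf (nat_lit 0x1000300090087088b1c7a)))
(.node (.node (.leaf (nat_lit 0x100030024006303de0a7a))
(.leaf (nat_lit 0x10009001b046e4ec9)))
(.leaf (nat_lit 0x100030009006c19d7))))
(.node (.node (.node (.leaf (nat_lit 0x100030024006303cc0a8319b3))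
(.leaf (nat_lit 0x10003000900f34d34)))
(.leaf (nat_lit 0x10003000901290bb552e6)))
(.node (.node (.leaf (nat_lit 0x100030009001b0e8e1c29))
(.leaf (nat_lit 0x1000300090144)))
(.leaf (nat_lit 0x10003005a04bf1aaf)))))
(.node (.node (.node (.node (.leaf (nat_lit 0x100030009001b005104bf19a1))
(.leaf (nat_lit 0x1000300510c691f5c)))
(.leaf (nat_lit 0x100030009001b046e4f6b)))
(.node (.node (.leaf (nat_lit 0x10003001b005102eb1a94))
(.leaf (nat_lit 0x10009012902dc4d88)))
(.leaf (nat_lit 0x10003007e030f19bc))))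
(.node (.node (.node (.leaf (nat_lit 0x100030009001b005100f385d7))
(.leaf (nat_lit 0x10003000902d94d34)))
(.leaf (nat_lit 0x10003000901b00b9a)))
(.node (.leaf (nat_lit 0x10003001b00510b64214b))
(.leaf (nat_lit 0x10003001b0e8e1c29))))))
(.node (.node (.node (.node (.node (.leaf (nat_lit 0x100030009001b00f3037b088b4d85))
(.leaf (nat_lit 0x1000300870d5c214b)))
(.leaf (nat_lit 0x100030009001b0144505e)))
(.node (.node (.leaf (nat_lit 0x100030024006300fc1c83))
(.leaf (nat_lit 0x1000900f602df4d85)))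
(.leaf (nat_lit 0x10003001b01051f65))))
(.node (.node (.node (.leaf (nat_lit 0x100030009001b00f302d94d34))
(.leaf (nat_lit 0x100030009010e5094)))
(.leaf (nat_lit 0x1000300090051088b)))
(.node (.node (.leaf (nat_lit 0x100030024005a0e3d1a94))
(.leaf (nat_lit 0x1000904f84d85)))
(.leaf (nat_lit 0x10003007e088b2154)))))
(.node (.node (.node (.node (.leaf (nat_lit 0x100030009001b00510b642139))
(.leaf (nat_lit 0x10003008708941e72)))
(.leaf (nat_lit 0x10009001b014402df4d85)))
(.node (.node (.leaf (nat_lit 0x10003002d0063088b1a94))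
(.leaf (nat_lit 0x10009011102dc4dbe)))
(.leaf (nat_lit 0x10003006c02d91a94))))
(.node (.node (.node (.leaf (nat_lit 0x100030009001b00f30b64))
(.leaf (nat_lit 0x10009001b05614d8b)))
(.leaf (nat_lit 0x10003005a01050b6d)))
(.node (.leaf (nat_lit 0x10003002d005a0b642058))
(.leaf (nat_lit 0x1000300240e461a9d)))))))
(.node (.node (.node (.node (.node (.node (.leaf (nat_lit 0x100030009001b005103cc0a7119a1))
(.leaf (nat_lit 0x10003006c0b642142)))
(.leaf (nat_lit 0x100030009001b00514ce3)))
(.node (.node (.leaf (nat_lit 0x100030009001b01951f53))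
(.leaf (nat_lit 0x10009001b041d4f20)))
(.leaf (nat_lit 0x10003002d01441a55))))
(.node (.node (.node (.leaf (nat_lit 0x100030009001b005100f35295))
(.leaf (nat_lit 0x10009001e01955298)))
(.leaf (nat_lit 0x10003000901b00beb6cf3)))
(.node (.node (.leaf (nat_lit 0x100030009001b10741c29))
(.leaf (nat_lit 0x10003002d1e60)))
(.leaf (nat_lit 0x10003006308c11aca)))))
(.node (.node (.node (.node (.leaf (nat_lit 0x100030009001b005110231b87))
(.leaf (nat_lit 0x1000300870d532046)))
(.leaf (nat_lit 0x10009001b00f302dc4d8b)))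
(.node (.node (.leaf (nat_lit 0x10003002d005a03cc1aa6))
(.leaf (nat_lit 0x10009011402d94dbb)))
(.leaf (nat_lit 0x10003006304f51b87))))
(.node (.node (.node (.leaf (nat_lit 0x100030009001b019502d9))
(.leaf (nat_lit 0x10003000904bf4d85)))
(.leaf (nat_lit 0x10003006300f30b76)))
(.node (.leaf (nat_lit 0x10003002d00630d4a2139))
(.leaf (nat_lit 0x10003002410c51b90))))))
(.node (.node (.node (.node (.node (.leaf (nat_lit 0x100030009001b005100f3088b))
(.leaf (nat_lit 0x10003006c0b642058)))
(.leaf (nat_lit 0x10009001b005702d94ce3)))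
(.node (.node (.leaf (nat_lit 0x10003002d005104bf19aa))
(.leaf (nat_lit 0x10009012902d94d85)))
(.leaf (nat_lit 0x10003001b00631d6d))))
(.node (.node (.node (.leaf (nat_lit 0x100030009001b00f30e8e4ce3))
(.leaf (nat_lit 0x10009001e02df4ce3)))
(.leaf (nat_lit 0x10003000901440edf)))
(.node (.node (.leaf (nat_lit 0x100030009001b10741b36))
(.leaf (nat_lit 0x10198695d)))
(.leaf (nat_lit 0x10003006c089d204f)))))
(.node (.node (.node (.node (.leaf (nat_lit 0x10003001b005100fc0b761f65))
(.leaf (nat_lit 0x10009001b00574ce3)))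
(.leaf (nat_lit 0x10003000900f30e3d4ce3)))
(.node (.node (.leaf (nat_lit 0x10003001b0051088b2058))
(.leaf (nat_lit 0x1000300fc0c0f5295)))
(.leaf (nat_lit 0x10003009003e719bc))))
(.node (.node (.node (.leaf (nat_lit 0x100030024006302eb0894))
(.leaf (nat_lit 0x10009001e05644d34)))
(.leaf (nat_lit 0x10003001b04d1089d)))
(.node (.leaf (nat_lit 0x10003002400510c572058))
(.leaf (nat_lit 0x1000300090f301a94)))))))))
(.node (.node (.node (.node (.node (.node (.node (.node (.leaf (nat_lit 0x100030009001b005100f3088b19a15295))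
(.leaf (nat_lit 0x10003001b10c51a94)))
(.leaf (nat_lit 0x10003001b00510d53204f)))
(.node (.node (.leaf (nat_lit 0x100030024005103cc0a71))
(.leaf (nat_lit 0x10009001e03cc4f71)))
(.leaf (nat_lit 0x10003002403d50b1c))))
(.node (.node (.node (.leaf (nat_lit 0x10003001b005104c8089d19b3))
(.leaf (nat_lit 0x10009001e01984ce6)))
(.leaf (nat_lit 0x10003000900f30c065337)))
(.node (.node (.leaf (nat_lit 0x10003002d005a0e3d19b3))
(.leaf (nat_lit 0x1000301b00be26cd8)))
(.leaf (nat_lit 0x10003005a04bf1aca)))))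
(.node (.node (.node (.node (.leaf (nat_lit 0x100030009001b005100f31f53))
(.leaf (nat_lit 0x1000300510c601f65)))
(.leaf (nat_lit 0x100030009001b05614d34)))
(.node (.node (.leaf (nat_lit 0x100030024005a03cc1b99))
(.leaf (nat_lit 0x10009012c02df4d8b)))
(.leaf (nat_lit 0x10003007e02d919a1))))
(.node (.node (.node (.leaf (nat_lit 0x100030009001b00f3088b4fbc))
(.leaf (nat_lit 0x10009001b037b4d88)))
(.leaf (nat_lit 0x10003001b00f30b76)))
(.node (.leaf (nat_lit 0x10003002400630b6d1f65))
(.leaf (nat_lit 0x10003001b0e4f1b87))))))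
(.node (.node (.node (.node (.node (.leaf (nat_lit 0x100030009001b00f302d9092d4ce3))
(.leaf (nat_lit 0x1000300870d5c1f5c)))
(.leaf (nat_lit 0x100030009001b00514fbc)))
(.node (.node (.leaf (nat_lit 0x100030009001b01441d1c))
(.leaf (nat_lit 0x1000900f902df4d85)))
(.leaf (nat_lit 0x10003002d005a2058))))
(.node (.node (.node (.leaf (nat_lit 0x100030009001b0195032a4d85))
(.leaf (nat_lit 0x10003000901294fbc)))
(.leaf (nat_lit 0x100030009012902d9)))
(.node (.node (.leaf (nat_lit 0x100030009001b0e3d1a94))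
(.leaf (nat_lit 0x1000902dc4d85)))
(.leaf (nat_lit 0x10003007508c11f53)))))
(.node (.node (.node (.node (.leaf (nat_lit 0x100030009001b01440e3d1a43))
(.leaf (nat_lit 0x100030087088b1e60)))
(.leaf (nat_lit 0x10009001e019802df4ce6)))
(.node (.node (.leaf (nat_lit 0x10003002d0051088b19aa))
(.leaf (nat_lit 0x10009010e02df4dbe)))
(.leaf (nat_lit 0x10003008703cc1b90))))
(.node (.node (.node (.leaf (nat_lit 0x100030009001b01440edf))
(.leaf (nat_lit 0x10009002105614ce3)))
(.leaf (nat_lit 0x10003005a00f30b64)))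
(.node (.leaf (nat_lit 0x10003001b00510b642058))
(.leaf (nat_lit 0x1000300090fb71c29)))))))
(.node (.node (.node (.node (.node (.node (.leaf (nat_lit 0x100030009001b005102d9088b1b87))
(.leaf (nat_lit 0x10003006c0b64214b)))
(.leaf (nat_lit 0x1000300090087088b1d6d)))
(.node (.node (.leaf (nat_lit 0x100030009001b00511f53))
(.leaf (nat_lit 0x10009001e041d4ec9)))
(.leaf (nat_lit 0x10003002d019519a1))))
(.node (.node (.node (.leaf (nat_lit 0x100030024006302eb089d1aa6))
(.leaf (nat_lit 0x10009001b00f35337)))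
(.leaf (nat_lit 0x100030009001b01956c36)))
(.node (.node (.leaf (nat_lit 0x10003002d005a102319b3))
(.leaf (nat_lit 0x10003006c1aca)))
(.leaf (nat_lit 0x100030051089d19aa)))))
(.node (.node (.node (.node (.leaf (nat_lit 0x100030009001b0051088b2046))
(.leaf (nat_lit 0x1000300870d5c2046)))
(.leaf (nat_lit 0x10009001b00f302d94d85)))
(.node (.node (.leaf (nat_lit 0x10003002d005103cc19aa))
(.leaf (nat_lit 0x10009010e02d94dc1)))
(.leaf (nat_lit 0x10003005104c819aa))))
(.node (.node (.node (.leaf (nat_lit 0x100030009001b005102d9))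
(.leaf (nat_lit 0x10009001b03814d34)))
(.leaf (nat_lit 0x10003005101050b64)))
(.node (.leaf (nat_lit 0x10003000900870d4a2139))
(.leaf (nat_lit 0x10003002410231b87))))))
(.node (.node (.node (.node (.node (.leaf (nat_lit 0x100030009001b005100f30e3d6684))
(.leaf (nat_lit 0x1000300510c602139)))
(.leaf (nat_lit 0x10009001b005102d94ce9)))
(.node (.node (.leaf (nat_lit 0x10003001b005104d119a1))
(.leaf (nat_lit 0x1000900f902d94d88)))
(.leaf (nat_lit 0x10003002d00511e60))))
(.node (.node (.node (.leaf (nat_lit 0x100030009001b00f30edf4ce3))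
(.leaf (nat_lit 0x100030009010e5043)))
(.leaf (nat_lit 0x100030024005a0e4f)))
(.node (.node (.leaf (nat_lit 0x10003000900870f301a94))
(.leaf (nat_lit 0x1018c85d7)))
(.leaf (nat_lit 0x10003006c08942058)))))
(.node (.node (.node (.node (.leaf (nat_lit 0x10003001b005100f30b6d1f65))
(.leaf (nat_lit 0x10003009008a61d88)))
(.leaf (nat_lit 0x100030009010e08dc4d85)))
(.node (.node (.leaf (nat_lit 0x100030024005a088b2139))
(.leaf (nat_lit 0x10009010e0e8e4d85)))
(.leaf (nat_lit 0x100030090040219d7))))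
(.node (.node (.node (.leaf (nat_lit 0x100030024005102d9088b))
(.leaf (nat_lit 0x10009002105104d3a)))
(.leaf (nat_lit 0x100030024037b0894)))
(.node (.leaf (nat_lit 0x10003001b00510c572058))
(.leaf (nat_lit 0x1000300750f3019e0))))))))
(.node (.node (.node (.node (.node (.node (.node (.leaf (nat_lit 0x100030009001b005100f302d9088b))
(.leaf (nat_lit 0x10003006c0b761f53)))
(.leaf (nat_lit 0x10003001b0051088b1e72)))
(.node (.node (.leaf (nat_lit 0x100030009001b00f319a1))
(.leaf (nat_lit 0x100090021046e4f71)))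
(.leaf (nat_lit 0x10003002d00511b87))))
(.node (.node (.node (.leaf (nat_lit 0x100030024006303de0a7a19b3))
(.leaf (nat_lit 0x10009001b0051529b)))
(.leaf (nat_lit 0x100030009010e092d4fbc)))
(.node (.node (.leaf (nat_lit 0x10003001b00630e3d1b87))
(.leaf (nat_lit 0x1000300630b64)))
(.leaf (nat_lit 0x100030051088b19a1)))))
(.node (.node (.node (.node (.leaf (nat_lit 0x100030009001b005103cc19a1))
(.leaf (nat_lit 0x1000300510c692058)))
(.leaf (nat_lit 0x100030009001b041d4f1a)))
(.node (.node (.leaf (nat_lit 0x10003002d005a02d91aa6))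
(.leaf (nat_lit 0x10009012c02dc4d85)))
(.leaf (nat_lit 0x10003007e02f419d7))))
(.node (.node (.node (.leaf (nat_lit 0x100030009001b01440c068628))
(.leaf (nat_lit 0x10009001b032a4ce3)))
(.leaf (nat_lit 0x10003000901440c06)))
(.node (.leaf (nat_lit 0x10003002400630b6d214b))
(.leaf (nat_lit 0x10003002d102319b3))))))
(.node (.node (.node (.node (.node (.leaf (nat_lit 0x100030009001b005100f3088b8025))
(.leaf (nat_lit 0x1000300870d532142)))
(.leaf (nat_lit 0x100030009001b037b4ce3)))
(.node (.node (.leaf (nat_lit 0x10003002d005102d919b3))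
(.leaf (nat_lit 0x1000900f302dc4d85)))
(.leaf (nat_lit 0x10003001b01441ff5))))
(.node (.node (.node (.leaf (nat_lit 0x100030009001b00f3088b4ce3))
(.leaf (nat_lit 0x10009001e01954fbc)))
(.leaf (nat_lit 0x10003000900f3088b)))
(.node (.node (.leaf (nat_lit 0x100030009006c0f3019d7))
(.leaf (nat_lit 0x1000904024f6e)))
(.leaf (nat_lit 0x10003007e088b216f)))))
(.node (.node (.node (.node (.leaf (nat_lit 0x100030009001b00510b642046))
(.leaf (nat_lit 0x100030087089d1e69)))
(.leaf (nat_lit 0x10009001b014402dc4d85)))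
(.node (.node (.leaf (nat_lit 0x10003001b005a088b1f53))
(.leaf (nat_lit 0x10009011402dc4dbe)))
(.leaf (nat_lit 0x10003006c02e21aa6))))
(.node (.node (.node (.leaf (nat_lit 0x10003001b005100f30b64))
(.leaf (nat_lit 0x10009001b05104d88)))
(.leaf (nat_lit 0x10003006301050b6d)))
(.node (.leaf (nat_lit 0x10003001b00510c571f65))
(.leaf (nat_lit 0x1000300240e8e1b36)))))))
(.node (.node (.node (.node (.node (.node (.leaf (nat_lit 0x100030009001b005100f302d94ce3))
(.leaf (nat_lit 0x1000300870d4a1f53)))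
(.leaf (nat_lit 0x100030009001b01444d85)))
(.node (.node (.leaf (nat_lit 0x10003001b005101051f65))
(.leaf (nat_lit 0x10009001e04714f1a)))
(.leaf (nat_lit 0x10003002d00631f53))))
(.node (.node (.node (.leaf (nat_lit 0x100030009001b005103cc4ec9))
(.leaf (nat_lit 0x10009001b0144533a)))
(.leaf (nat_lit 0x100030009001b0144)))
(.node (.node (.leaf (nat_lit 0x1000300240063102c1b90))
(.leaf (nat_lit 0x1000900f35337)))
(.leaf (nat_lit 0x10003006308a61aaf)))))
(.node (.node (.node (.node (.leaf (nat_lit 0x100030009001b00510f301a94))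
(.leaf (nat_lit 0x100030099088b1cb0)))
(.leaf (nat_lit 0x10009002100f902dc4d8b)))
(.node (.node (.leaf (nat_lit 0x10003002d005a04bf1aa6))
(.leaf (nat_lit 0x10009011402dc4dc1)))
(.leaf (nat_lit 0x10003006304da1b87))))
(.node (.node (.node (.leaf (nat_lit 0x100030009001b00f3088b))
(.leaf (nat_lit 0x10009001b04bf4d8b)))
(.leaf (nat_lit 0x10003005a00f30b76)))
(.node (.leaf (nat_lit 0x10003001b00510c57214b))
(.leaf (nat_lit 0x100030024107d1c32))))))
(.node (.node (.node (.node (.node (.leaf (nat_lit 0x100030009001b005104bf088b))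
(.leaf (nat_lit 0x10003006c0b64204f)))
(.leaf (nat_lit 0x100030009001b04bf4ce3)))
(.node (.node (.leaf (nat_lit 0x100030024006304bf1b90))
(.leaf (nat_lit 0x10009012902dc4d8b)))
(.leaf (nat_lit 0x10003002400f31c83))))
(.node (.node (.node (.leaf (nat_lit 0x100030009001b00f30b645337))
(.leaf (nat_lit 0x10009001e02dc4d8b)))
(.leaf (nat_lit 0x10003002d00630b64)))
(.node (.leaf (nat_lit 0x10003001b006310231a94))
(.leaf (nat_lit 0x10003002d0edf19a1)))))
(.node (.node (.node (.node (.leaf (nat_lit 0x10003001b005104bf088b19a1))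
(.leaf (nat_lit 0x10003000900f34d85)))
(.leaf (nat_lit 0x100030009010e0e8e4d85)))
(.node (.node (.leaf (nat_lit 0x10003002d005a088b2058))
(.leaf (nat_lit 0x100030009015f82fe)))
(.leaf (nat_lit 0x10003009904021a94))))
(.node (.node (.node (.leaf (nat_lit 0x10003001b005104bf088b))
(.leaf (nat_lit 0x10003000903cc4f6b)))
(.leaf (nat_lit 0x10003001b0561088b)))
(.node (.leaf (nat_lit 0x10003001b00510d4a2058))
(.leaf (nat_lit 0x10003000910081a94)))))))))))
(.node (.node (.node (.node (.node (.node (.node (.node (.node (.node (.leaf (nat_lit 0x100030009001b005100f302d9088b19a1))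
(.leaf (nat_lit 0x1000300090fb71b36)))
(.leaf (nat_lit 0x10003001b00510d532058)))
(.node (.node (.leaf (nat_lit 0x10003001b006304bf088b))
(.leaf (nat_lit 0x10009001b03cc4f6b)))
(.leaf (nat_lit 0x10003002403cc0a71))))
(.node (.node (.node (.leaf (nat_lit 0x10003001b005104bf089d19b3))
(.leaf (nat_lit 0x10009001b00f34d85)))
(.leaf (nat_lit 0x100030009010e0e8e4d34)))
(.node (.node (.leaf (nat_lit 0x100030009001b0edf19a1))
(.leaf (nat_lit 0x10003018c0ba385e9)))
(.leaf (nat_lit 0x10003009903cc1aaf)))))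
(.node (.node (.node (.node (.leaf (nat_lit 0x100030009001b00f302d9092d))
(.leaf (nat_lit 0x10003006c0b76204f)))
(.leaf (nat_lit 0x100030009001b05614d85)))
(.node (.node (.leaf (nat_lit 0x100030009008703cc1b87))
(.leaf (nat_lit 0x10009012f02df4d85)))
(.leaf (nat_lit 0x10003002401951c83))))
(.node (.node (.node (.leaf (nat_lit 0x100030009001b00f30bb55337))
(.leaf (nat_lit 0x10009001b037b4ce3)))
(.leaf (nat_lit 0x10003002400630b6d)))
(.node (.leaf (nat_lit 0x10003001b00510b641f53))
(.leaf (nat_lit 0x10003002d0e8e1a43))))))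
(.node (.node (.node (.node (.node (.leaf (nat_lit 0x100030009001b005100f30e3d4ce3))
(.leaf (nat_lit 0x1000300870d5c1f65)))
(.leaf (nat_lit 0x100030009001b00f35295)))
(.node (.node (.leaf (nat_lit 0x100030009001b00511c7a))
(.leaf (nat_lit 0x1000900f302df4d85)))
(.leaf (nat_lit 0x10003002d00512139))))
(.node (.node (.node (.leaf (nat_lit 0x100030009001b00f3037b4ce3))
(.leaf (nat_lit 0x100030009010e531c)))
(.leaf (nat_lit 0x100030009001b04bf)))
(.node (.node (.leaf (nat_lit 0x100030009001b0fd21b87))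
(.leaf (nat_lit 0x100090129505e)))
(.leaf (nat_lit 0x100030075088b1f6e)))))
(.node (.node (.node (.node (.leaf (nat_lit 0x100030009001b00f30edf19a1))
(.leaf (nat_lit 0x10003009908a61cb0)))
(.leaf (nat_lit 0x10009001e019502dc4ce3)))
(.node (.node (.leaf (nat_lit 0x10003001b0051088b19b3))
(.leaf (nat_lit 0x10009011102df4dc1)))
(.leaf (nat_lit 0x10003008703cc1b87))))
(.node (.node (.node (.leaf (nat_lit 0x100030009005100f3088b))
(.leaf (nat_lit 0x10009002104c54d8b)))
(.leaf (nat_lit 0x10003005a00fc0b76)))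
(.node (.leaf (nat_lit 0x10003002d00510c692139))
(.leaf (nat_lit 0x1000300090f4b1bbd)))))))
(.node (.node (.node (.node (.node (.node (.leaf (nat_lit 0x100030009001b005100f3088b1f53))
(.leaf (nat_lit 0x10003006c0b641f5c)))
(.leaf (nat_lit 0x100030024005a088b1e72)))
(.node (.node (.leaf (nat_lit 0x10003002d005100f319a1))
(.leaf (nat_lit 0x100090021041d4f71)))
(.leaf (nat_lit 0x10003002d005a1aa6))))
(.node (.node (.node (.leaf (nat_lit 0x100030024006302d9088b1aa6))
(.leaf (nat_lit 0x10003000901295295)))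
(.leaf (nat_lit 0x100030009001b014482fe)))
(.node (.node (.leaf (nat_lit 0x100030009001b10c519a1))
(.leaf (nat_lit 0x1000301290b64)))
(.leaf (nat_lit 0x100030051089d19b3)))))
(.node (.node (.node (.node (.leaf (nat_lit 0x100030009001b0051088b19a1))
(.leaf (nat_lit 0x1000300510c602046)))
(.leaf (nat_lit 0x100030009012902d94ce3)))
(.node (.node (.leaf (nat_lit 0x10003002d005103cc19b3))
(.leaf (nat_lit 0x10009012f02d94d88)))
(.leaf (nat_lit 0x10003005104d119a1))))
(.node (.node (.node (.leaf (nat_lit 0x100030009001b005100f3695d))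
(.leaf (nat_lit 0x10009001b032a4d34)))
(.leaf (nat_lit 0x10003001b01440c06)))
(.node (.leaf (nat_lit 0x10003001b00510d4a1f53))
(.leaf (nat_lit 0x10003002d10c519b3))))))
(.node (.node (.node (.node (.node (.leaf (nat_lit 0x100030009001b005100f30b6485d7))
(.leaf (nat_lit 0x1000300510c57214b)))
(.leaf (nat_lit 0x100030009001b02d94d34)))
(.node (.node (.leaf (nat_lit 0x10003002d005102d919aa))
(.leaf (nat_lit 0x1000900f602d94d85)))
(.leaf (nat_lit 0x10003000900511c7a))))
(.node (.node (.node (.leaf (nat_lit 0x100030009001b00f3088b5295))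
(.leaf (nat_lit 0x10009001b0144505e)))
(.leaf (nat_lit 0x1000300090195088b)))
(.node (.node (.leaf (nat_lit 0x10003002400510f3019b3))
(.leaf (nat_lit 0x10003016882fe)))
(.leaf (nat_lit 0x10003007e08a6216f)))))
(.node (.node (.node (.node (.leaf (nat_lit 0x100030009001b00510d4a2046))
(.leaf (nat_lit 0x10003009008c11d6d)))
(.leaf (nat_lit 0x10003000900f302d94d34)))
(.node (.node (.leaf (nat_lit 0x100030009006c088b1f89))
(.leaf (nat_lit 0x1000c00f90e3d4ce9)))
(.leaf (nat_lit 0x10003006c02e21a9d))))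
(.node (.node (.node (.leaf (nat_lit 0x10003001b006300f30b64))
(.leaf (nat_lit 0x10003000904da4d6a)))
(.leaf (nat_lit 0x10003002402e20894)))
(.node (.leaf (nat_lit 0x10003002d00510c691f53))
(.leaf (nat_lit 0x1000300750f3019e9))))))))
(.node (.node (.node (.node (.node (.node (.node (.leaf (nat_lit 0x100030009001b005100f3088b1c7a5295))
(.leaf (nat_lit 0x10003001b10741b36)))
(.leaf (nat_lit 0x1000300240051088b1c7a)))
(.node (.node (.leaf (nat_lit 0x100030024006303d50a7a))
(.leaf (nat_lit 0x10009002103cc4f6e)))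
(.leaf (nat_lit 0x10003002404770a7a))))
(.node (.node (.node (.leaf (nat_lit 0x100030024006303cc0a8319a1))
(.leaf (nat_lit 0x10009001b01444d88)))
(.leaf (nat_lit 0x10003000901290bb55295)))
(.node (.node (.leaf (nat_lit 0x100030009001b0edf1b87))
(.leaf (nat_lit 0x1000300090195)))
(.leaf (nat_lit 0x10003005a04da1aca)))))
(.node (.node (.node (.node (.leaf (nat_lit 0x100030009001b005102d91b87))
(.leaf (nat_lit 0x1000300510c601f5c)))
(.leaf (nat_lit 0x100030009001b046e4ec9)))
(.node (.node (.leaf (nat_lit 0x10003001b005102d91aa6))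
(.leaf (nat_lit 0x10009012902dc4d85)))
(.leaf (nat_lit 0x10003007e02f419bc))))
(.node (.node (.node (.leaf (nat_lit 0x100030009001b005100f38025))
(.leaf (nat_lit 0x10009001b032a4d88)))
(.leaf (nat_lit 0x10003000901cb0b64)))
(.node (.leaf (nat_lit 0x10003001b00510b642139))
(.leaf (nat_lit 0x10003001b0ef11b87))))))
(.node (.node (.node (.node (.node (.leaf (nat_lit 0x100030009001b00f3037b088b4ce3))
(.leaf (nat_lit 0x1000300870d5c2139)))
(.leaf (nat_lit 0x100030009001b01954fbc)))
(.node (.node (.leaf (nat_lit 0x100030024006300f31c83))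
(.leaf (nat_lit 0x1000900f602d94d8b)))
(.leaf (nat_lit 0x10003001b00f31f65))))
(.node (.node (.node (.leaf (nat_lit 0x100030009001b0144032a4d85))
(.leaf (nat_lit 0x1000300090129505e)))
(.leaf (nat_lit 0x1000300090144037b)))
(.node (.node (.leaf (nat_lit 0x10003002400510e3d1a94))
(.leaf (nat_lit 0x1000904f84d8b)))
(.leaf (nat_lit 0x10003007e088b2139)))))
(.node (.node (.node (.node (.leaf (nat_lit 0x100030009001b00510b641f53))
(.leaf (nat_lit 0x100030087089d1e72)))
(.leaf (nat_lit 0x10009001b014402d94d8b)))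
(.node (.node (.leaf (nat_lit 0x1000300090051088b1a94))
(.leaf (nat_lit 0x10009011102dc4dbb)))
(.leaf (nat_lit 0x10003008703de1b90))))
(.node (.node (.node (.leaf (nat_lit 0x100030009001b00510b64))
(.leaf (nat_lit 0x10009001b05614d85)))
(.leaf (nat_lit 0x10003005a00fc0b6d)))
(.node (.leaf (nat_lit 0x10003002400630b6d2058))
(.leaf (nat_lit 0x1000300240e3d1a9d)))))))
(.node (.node (.node (.node (.node (.node (.leaf (nat_lit 0x100030009001b005103cc088b1b87))
(.leaf (nat_lit 0x10003006c0b6d214b)))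
(.leaf (nat_lit 0x1000300240063088b1d7f)))
(.node (.node (.leaf (nat_lit 0x100030009001b00f31f53))
(.leaf (nat_lit 0x10009001b041d4f1a)))
(.leaf (nat_lit 0x10003002d01441a43))))
(.node (.node (.node (.leaf (nat_lit 0x100030009001b005100f34ce3))
(.leaf (nat_lit 0x10009001e01955295)))
(.leaf (nat_lit 0x10003000901b00bd06cd8)))
(.node (.node (.leaf (nat_lit 0x100030009001b10c51b87))
(.leaf (nat_lit 0x1000300631c7a)))
(.leaf (nat_lit 0x10003006308c11a94)))))
(.node (.node (.node (.node (.leaf (nat_lit 0x100030009001b0051102319a1))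
(.leaf (nat_lit 0x1000300870d4a204f)))
(.leaf (nat_lit 0x10009001b00f302df4d8b)))
(.node (.node (.leaf (nat_lit 0x100030009008703cc1a94))
(.leaf (nat_lit 0x10009010e02dc4dc1)))
(.leaf (nat_lit 0x10003006304bf1bbd))))
(.node (.node (.node (.leaf (nat_lit 0x100030009001b00f302d9))
(.leaf (nat_lit 0x10003000904da4d19)))
(.leaf (nat_lit 0x10003006300f30b64)))
(.node (.leaf (nat_lit 0x10003001b00510d53214b))
(.leaf (nat_lit 0x10003002410c51b87))))))
(.node (.node (.node (.node (.node (.leaf (nat_lit 0x100030009001b005100f302d9))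
(.leaf (nat_lit 0x10003006c0b642046)))
(.leaf (nat_lit 0x10009001b005102dc4ce9)))
(.node (.node (.leaf (nat_lit 0x100030024005104bf19b3))
(.leaf (nat_lit 0x1000900f902df4d88)))
(.leaf (nat_lit 0x10003000900871d6d))))
(.node (.node (.node (.leaf (nat_lit 0x100030009001b00f30e3d4d34))
(.leaf (nat_lit 0x10009002102df4ce3)))
(.leaf (nat_lit 0x10003000901950e3d)))
(.node (.node (.leaf (nat_lit 0x100030009001b10c51a94))
(.leaf (nat_lit 0x101bc6c36)))
(.leaf (nat_lit 0x10003006c0894204f)))))
(.node (.node (.node (.node (.leaf (nat_lit 0x10003001b005101050b6d1f65))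
(.leaf (nat_lit 0x10009001b00514ce9)))
(.leaf (nat_lit 0x10003000900f3092d5337)))
(.node (.node (.leaf (nat_lit 0x10003001b0051088b2046))
(.leaf (nat_lit 0x1000300fc0c065295)))
(.leaf (nat_lit 0x10003009003e719a1))))
(.node (.node (.node (.leaf (nat_lit 0x100030024006302e20894))
(.leaf (nat_lit 0x10009001e05614d37)))
(.leaf (nat_lit 0x10003001b04bf089d)))
(.node (.leaf (nat_lit 0x10003002d00510c602058))
(.leaf (nat_lit 0x1000300750f4219e0)))))))))
(.node (.node (.node (.node (.node (.node (.node (.node (.leaf (nat_lit 0x100030009001b005100f3088b19a14ce3))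
(.leaf (nat_lit 0x10003001b10351a94)))
(.leaf (nat_lit 0x10003001b00510d532046)))
(.node (.node (.leaf (nat_lit 0x100030009001b046e0a71))
(.leaf (nat_lit 0x10009002103cc4f71)))
(.leaf (nat_lit 0x10003002403cc0b1c))))
(.node (.node (.node (.leaf (nat_lit 0x10003001b005104d1089d19b3))
(.leaf (nat_lit 0x10009001e01954ce6)))
(.leaf (nat_lit 0x10003000900f30c065295)))
(.node (.node (.leaf (nat_lit 0x10003002d00630e3d19a1))
(.leaf (nat_lit 0x1000301b00bd06cd8)))
(.leaf (nat_lit 0x10003005a04bf1a94)))))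
(.node (.node (.node (.node (.leaf (nat_lit 0x100030009001b005100f319a1))
(.leaf (nat_lit 0x1000300510c691f65)))
(.leaf (nat_lit 0x100030009001b05104d34)))
(.node (.node (.leaf (nat_lit 0x10003002d006303cc1b87))
(.leaf (nat_lit 0x10009012c02df4d85)))
(.leaf (nat_lit 0x100030024014d1d25))))
(.node (.node (.node (.leaf (nat_lit 0x100030009001b00f30c0652e6))
(.leaf (nat_lit 0x10009001b037b4d8b)))
(.leaf (nat_lit 0x10003001b00f30b64)))
(.node (.leaf (nat_lit 0x10003002400630b761f53))
(.leaf (nat_lit 0x10003001b0e3d1b99))))))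
(.node (.node (.node (.node (.node (.leaf (nat_lit 0x100030009001b00f302d9088b4d85))
(.leaf (nat_lit 0x1000300870d531f5c)))
(.leaf (nat_lit 0x100030009001b00f352e6)))
(.node (.node (.leaf (nat_lit 0x100030009001b01951c7a))
(.leaf (nat_lit 0x1000900f902d94d8b)))
(.leaf (nat_lit 0x10003001b005a2058))))
(.node (.node (.node (.leaf (nat_lit 0x100030009001b0195037b4ce3))
(.leaf (nat_lit 0x10003000900f34fbc)))
(.leaf (nat_lit 0x10003000900f302d9)))
(.node (.node (.leaf (nat_lit 0x100030009006c0f301bbd))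
(.leaf (nat_lit 0x1000902dc4d8b)))
(.leaf (nat_lit 0x100030075088b1f89)))))
(.node (.node (.node (.node (.leaf (nat_lit 0x100030009001b01950e8e1a43))
(.leaf (nat_lit 0x10003009908c11c95)))
(.leaf (nat_lit 0x10009001e019802dc4ce6)))
(.node (.node (.leaf (nat_lit 0x1000300240051088b19b3))
(.leaf (nat_lit 0x10009010e02dc4dbe)))
(.leaf (nat_lit 0x10003008703d51b99))))
(.node (.node (.node (.leaf (nat_lit 0x100030009001b01950e3d))
(.leaf (nat_lit 0x10009001b04bf4d88)))
(.leaf (nat_lit 0x10003005101050b6d)))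
(.node (.leaf (nat_lit 0x10003001b00510b642046))
(.leaf (nat_lit 0x1000300090f811c29)))))))
(.node (.node (.node (.node (.node (.node (.leaf (nat_lit 0x100030009001b005102d9088b19a1))
(.leaf (nat_lit 0x10003006c0b642139)))
(.leaf (nat_lit 0x10003002d0051089d1d7f)))
(.node (.node (.leaf (nat_lit 0x10003002d005100f319aa))
(.leaf (nat_lit 0x10003000903e74f50)))
(.leaf (nat_lit 0x10003002d00f319aa))))
(.node (.node (.node (.leaf (nat_lit 0x100030024006302eb088b1aa6))
(.leaf (nat_lit 0x100030009010e536d)))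
(.leaf (nat_lit 0x100030009001b01956684)))
(.node (.node (.leaf (nat_lit 0x10003002d0063102319a1))
(.leaf (nat_lit 0x1000301440c06)))
(.leaf (nat_lit 0x100030051089419aa)))))
(.node (.node (.node (.node (.leaf (nat_lit 0x100030009001b0051088b2139))
(.leaf (nat_lit 0x1000300870d4a2058)))
(.leaf (nat_lit 0x100030009010e02d94dbb)))
(.node (.node (.leaf (nat_lit 0x100030024006303de19aa))
(.leaf (nat_lit 0x10009010e02d94dbb)))
(.leaf (nat_lit 0x10003005104c819a1))))
(.node (.node (.node (.leaf (nat_lit 0x100030009001b005100f3))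
(.leaf (nat_lit 0x10009001b037b4d3a)))
(.leaf (nat_lit 0x10003005100f30b76)))
(.node (.leaf (nat_lit 0x100030024005a0d4a1f65))
(.leaf (nat_lit 0x10003002d10741a4c))))))
(.node (.node (.node (.node (.node (.leaf (nat_lit 0x100030009001b005100f3088b6c36))
(.leaf (nat_lit 0x1000300510c572142)))
(.leaf (nat_lit 0x10009001b005102d94ce3)))
(.node (.node (.leaf (nat_lit 0x10003001b005104bf19b3))
(.leaf (nat_lit 0x1000900f602df4d88)))
(.leaf (nat_lit 0x100030009001b1e60))))
(.node (.node (.node (.leaf (nat_lit 0x100030009001b00f30e3d4d85))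
(.leaf (nat_lit 0x1000300090129500d)))
(.leaf (nat_lit 0x10003002d005a0e4f)))
(.node (.node (.leaf (nat_lit 0x10003000900510f301a94))
(.leaf (nat_lit 0x101448025)))
(.leaf (nat_lit 0x10003006c089d2058)))))
(.node (.node (.node (.node (.leaf (nat_lit 0x10003001b005100f30b761f65))
(.leaf (nat_lit 0x10003009008a61d6d)))
(.leaf (nat_lit 0x10003000900f3088b4d85)))
(.node (.node (.leaf (nat_lit 0x10003002d0051089d2139))
(.leaf (nat_lit 0x1000f012f0ee54ce9)))
(.leaf (nat_lit 0x100030090040219a1))))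
(.node (.node (.node (.leaf (nat_lit 0x100030009001b037b088b))
(.leaf (nat_lit 0x10009002105104d34)))
(.leaf (nat_lit 0x100030024037b088b)))
(.node (.leaf (nat_lit 0x10003001b00510c572046))
(.leaf (nat_lit 0x1000300750f3019d7))))))))
(.node (.node (.node (.node (.node (.node (.node (.leaf (nat_lit 0x100030009001b005100f3088b1f534fbc))
(.leaf (nat_lit 0x10003006c0b641f65)))
(.leaf (nat_lit 0x10003001b0051088b1e60)))
(.node (.node (.leaf (nat_lit 0x100030009001b00511a94))
(.leaf (nat_lit 0x100090021046e4f6b)))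
(.leaf (nat_lit 0x100030024005119b3))))
(.node (.node (.node (.leaf (nat_lit 0x100030024006303de0a8319b3))
(.leaf (nat_lit 0x10009001b00515295)))
(.leaf (nat_lit 0x1000300090129088b505e)))
(.node (.node (.leaf (nat_lit 0x10003001b00510e4f1b87))
(.leaf (nat_lit 0x100030051088b)))
(.leaf (nat_lit 0x10003005a04f51aaf)))))
(.node (.node (.node (.node (.leaf (nat_lit 0x100030009001b005102d91a94))
(.leaf (nat_lit 0x1000300510c692046)))
(.leaf (nat_lit 0x100030009001b041d4ec9)))
(.node (.node (.leaf (nat_lit 0x100030024006302eb1aa6))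
(.leaf (nat_lit 0x10009012c02d94d88)))
(.leaf (nat_lit 0x10003007e030f19d7))))
(.node (.node (.node (.leaf (nat_lit 0x100030009001b01440bb585d7))
(.leaf (nat_lit 0x10009001e02d94d3a)))
(.leaf (nat_lit 0x10003001b01a70b64)))
(.node (.leaf (nat_lit 0x10003002400630b762139))
(.leaf (nat_lit 0x10003002d102319a1))))))
(.node (.node (.node (.node (.node (.leaf (nat_lit 0x100030009001b005100f302d98025))
(.leaf (nat_lit 0x1000300870d532139)))
(.leaf (nat_lit 0x100030009001b02d94d85)))
(.node (.node (.leaf (nat_lit 0x10003002d005102d919a1))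
(.leaf (nat_lit 0x1000900f302d94d88)))
(.leaf (nat_lit 0x10003001b01a71f65))))
(.node (.node (.node (.leaf (nat_lit 0x100030009001b00f3037b4d34))
(.leaf (nat_lit 0x10009002100f35064)))
(.leaf (nat_lit 0x1000300240051089d)))
(.node (.node (.leaf (nat_lit 0x10003002400630e4f1a9d))
(.leaf (nat_lit 0x1000904024f71)))
(.leaf (nat_lit 0x10003007e08c12154)))))
(.node (.node (.node (.node (.leaf (nat_lit 0x100030009001b00510c572139))
(.leaf (nat_lit 0x10003008708941e69)))
(.leaf (nat_lit 0x10009001b014402d94d88)))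
(.node (.node (.leaf (nat_lit 0x100030024006308941a9d))
(.leaf (nat_lit 0x10009011402dc4dbb)))
(.leaf (nat_lit 0x10003006c02eb1aa6))))
(.node (.node (.node (.leaf (nat_lit 0x100030009005100f30b64))
(.leaf (nat_lit 0x10009001b05104d8b)))
(.leaf (nat_lit 0x10003006300fc0b6d)))
(.node (.leaf (nat_lit 0x10003001b00510c571f53))
(.leaf (nat_lit 0x1000300240ee81a9d)))))))
(.node (.node (.node (.node (.node (.node (.leaf (nat_lit 0x100030009001b005104bf088b1a94))
(.leaf (nat_lit 0x10003006c0b762142)))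
(.leaf (nat_lit 0x100030009001b01954ce3)))
(.node (.node (.leaf (nat_lit 0x10003001b005100f31f65))
(.leaf (nat_lit 0x10009001e046e4f1d)))
(.leaf (nat_lit 0x10003001b00511f53))))
(.node (.node (.node (.leaf (nat_lit 0x100030009001b005104bf4ce3))
(.leaf (nat_lit 0x10009001b0144533d)))
(.leaf (nat_lit 0x100030009001b0195)))
(.node (.node (.leaf (nat_lit 0x100030024006310231b90))
(.leaf (nat_lit 0x1000901144dbe)))
(.leaf (nat_lit 0x10003006308a61a94)))))
(.node (.node (.node (.node (.leaf (nat_lit 0x100030009001b00510f3019a1))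
(.leaf (nat_lit 0x100030099088b1c7a)))
(.leaf (nat_lit 0x10009002100f302df4d85)))
(.node (.node (.leaf (nat_lit 0x100030024005a04bf1a94))
(.leaf (nat_lit 0x10009011402df4dc1)))
(.leaf (nat_lit 0x10003006304bf1ba2))))
(.node (.node (.node (.leaf (nat_lit 0x100030009001b0051088b))
(.leaf (nat_lit 0x10009001b04bf4d85)))
(.leaf (nat_lit 0x10003006300fc0b76)))
(.node (.leaf (nat_lit 0x10003001b00510c572139))
(.leaf (nat_lit 0x10003002410741c32))))))
(.node (.node (.node (.node (.node (.leaf (nat_lit 0x100030009001b005102d9088b))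
(.leaf (nat_lit 0x10003006c0b6d2058)))
(.leaf (nat_lit 0x10009001b005402dc4ce9)))
(.node (.node (.leaf (nat_lit 0x10003002d006304bf1b87))
(.leaf (nat_lit 0x10009012902df4d8b)))
(.leaf (nat_lit 0x10003002400f31c7a))))
(.node (.node (.node (.leaf (nat_lit 0x100030009001b00f30b645295))
(.leaf (nat_lit 0x10009002102dc4d8b)))
(.leaf (nat_lit 0x10003001b00630b64)))
(.node (.leaf (nat_lit 0x10003001b005110351a94))
(.leaf (nat_lit 0x10003002d0e3d19aa)))))
(.node (.node (.node (.node (.leaf (nat_lit 0x100030009001b0051088b1d6d))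
(.leaf (nat_lit 0x100030009010e4d19)))
(.leaf (nat_lit 0x10003000901290edf4d85)))
(.node (.node (.leaf (nat_lit 0x1000300240063089d2058))
(.leaf (nat_lit 0x100030009017a85d7)))
(.leaf (nat_lit 0x10003009903cc1aca))))
(.node (.node (.node (.leaf (nat_lit 0x100030009001b0561088b))
(.leaf (nat_lit 0x10003000903e74eff)))
(.leaf (nat_lit 0x10003001b04d1093f)))
(.node (.leaf (nat_lit 0x10003001b00510d4a2046))
(.leaf (nat_lit 0x1000300090fd21a94))))))))))
(.node (.node (.node (.node (.node (.node (.node (.node (.node (.leaf (nat_lit 0x100030009001b005100f302d9088b8025))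
(.leaf (nat_lit 0x10003001b10231a94)))
(.leaf (nat_lit 0x100030024005a0d4a2058)))
(.node (.node (.leaf (nat_lit 0x100030009001b03cc0a71))
(.leaf (nat_lit 0x10009001b03d24f71)))
(.leaf (nat_lit 0x10003002403d50a7a))))
(.node (.node (.node (.leaf (nat_lit 0x10003001b005104d1088b19a1))
(.leaf (nat_lit 0x10009002100f34d85)))
(.leaf (nat_lit 0x100030009010e0b645295)))
(.node (.node (.leaf (nat_lit 0x10003002d00510e3d19a1))
(.leaf (nat_lit 0x10003000901b06c36)))
(.leaf (nat_lit 0x10003009903e71aaf)))))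
(.node (.node (.node (.node (.leaf (nat_lit 0x100030009001b019502d9088b))
(.leaf (nat_lit 0x1000300510c571f65)))
(.leaf (nat_lit 0x100030009001b04bf4d34)))
(.node (.node (.leaf (nat_lit 0x10003001b005103cc1b99))
(.leaf (nat_lit 0x10009012f02dc4d8b)))
(.leaf (nat_lit 0x10003002401441d1c))))
(.node (.node (.node (.leaf (nat_lit 0x100030009001b00f30bb55295))
(.leaf (nat_lit 0x10009001b03814ce9)))
(.leaf (nat_lit 0x10003000901290b64)))
(.node (.leaf (nat_lit 0x10003001b00510b761f65))
(.leaf (nat_lit 0x10003002d0e8e1a4c))))))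
(.node (.node (.node (.node (.node (.leaf (nat_lit 0x100030009001b005100f3088b4fbc))
(.leaf (nat_lit 0x1000300870d4a1f5c)))
(.leaf (nat_lit 0x100030009001b01955295)))
(.node (.node (.leaf (nat_lit 0x100030009001b00511d6d))
(.leaf (nat_lit 0x1000900f302dc4d8b)))
(.leaf (nat_lit 0x10003002d005a214b))))
(.node (.node (.node (.leaf (nat_lit 0x100030009001b00f3032a4d85))
(.leaf (nat_lit 0x10009001b00514fc2)))
(.leaf (nat_lit 0x100030009001b03cc)))
(.node (.node (.leaf (nat_lit 0x10003000900510f301b87))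
(.leaf (nat_lit 0x1000901295061)))
(.leaf (nat_lit 0x10003007508a61f6e)))))
(.node (.node (.node (.node (.leaf (nat_lit 0x100030009001b01950e3d19a1))
(.leaf (nat_lit 0x10003009908a61c7a)))
(.leaf (nat_lit 0x10009001e019502df4ce6)))
(.node (.node (.leaf (nat_lit 0x10003002d0051088b19a1))
(.leaf (nat_lit 0x10009010e02d94dbe)))
(.leaf (nat_lit 0x10003008703de1b87))))
(.node (.node (.node (.leaf (nat_lit 0x100030009001b00f30e3d))
(.leaf (nat_lit 0x10009001e04c54d85)))
(.leaf (nat_lit 0x10003005100fc0b64)))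
(.node (.leaf (nat_lit 0x10003002400510c57214b))
(.leaf (nat_lit 0x10003000910081b87)))))))
(.node (.node (.node (.node (.node (.node (.leaf (nat_lit 0x100030009001b005100f30b641f53))
(.leaf (nat_lit 0x10003006c0b6d1f5c)))
(.leaf (nat_lit 0x10003002d0051088b1d6d)))
(.node (.node (.leaf (nat_lit 0x10003002d006300f319a1))
(.leaf (nat_lit 0x10003000903cc4f1a)))
(.leaf (nat_lit 0x10003002d00f319a1))))
(.node (.node (.node (.leaf (nat_lit 0x100030024006302d9089d1aa6))
(.leaf (nat_lit 0x10003000900f35337)))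
(.leaf (nat_lit 0x100030009017a0b9a85d7)))
(.node (.node (.leaf (nat_lit 0x10003002d0051102319a1))
(.leaf (nat_lit 0x1000301290b6d)))
(.leaf (nat_lit 0x100030051088b19aa)))))
(.node (.node (.node (.node (.leaf (nat_lit 0x100030009001b0051088b1a94))
(.leaf (nat_lit 0x1000300510c69204f)))
(.leaf (nat_lit 0x10003000900f302d94d85)))
(.node (.node (.leaf (nat_lit 0x100030024006303cc19aa))
(.leaf (nat_lit 0x10009012f02dc4d88)))
(.leaf (nat_lit 0x10003005104c819b3))))
(.node (.node (.node (.leaf (nat_lit 0x100030009001b01950c066c36))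
(.leaf (nat_lit 0x10009001b03304d3a)))
(.leaf (nat_lit 0x10003001b01560c06)))
(.node (.leaf (nat_lit 0x10003001b00510d531f65))
(.leaf (nat_lit 0x10003002d10741a43))))))
(.node (.node (.node (.node (.node (.leaf (nat_lit 0x100030009001b005100f302d96684))
(.leaf (nat_lit 0x1000300510c69214b)))
(.leaf (nat_lit 0x100030009001b032a4d34)))
(.node (.node (.leaf (nat_lit 0x100030009005104bf19a1))
(.leaf (nat_lit 0x1000900f602dc4d85)))
(.leaf (nat_lit 0x10003002d00631c7a))))
(.node (.node (.node (.leaf (nat_lit 0x100030009001b00f3092d5337))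
(.leaf (nat_lit 0x10009001b01445061)))
(.leaf (nat_lit 0x10003000900510e3d)))
(.node (.node (.leaf (nat_lit 0x100030009001b0fd21a94))
(.leaf (nat_lit 0x1000301b96c36)))
(.leaf (nat_lit 0x10003006c088b2058)))))
(.node (.node (.node (.node (.leaf (nat_lit 0x10003001b005100f30b641f65))
(.leaf (nat_lit 0x10003009008a61da3)))
(.leaf (nat_lit 0x100030009010e02d94d6a)))
(.node (.node (.leaf (nat_lit 0x10003002d0051088b2139))
(.leaf (nat_lit 0x1000f012f0edf4ce3)))
(.leaf (nat_lit 0x10003009003cc19a1))))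
(.node (.node (.node (.leaf (nat_lit 0x100030009001b02d9088b))
(.leaf (nat_lit 0x10009001e05104ce6)))
(.leaf (nat_lit 0x10003002402d90936)))
(.node (.leaf (nat_lit 0x10003002400510c571f65))
(.leaf (nat_lit 0x1000300750f4219e9))))))))
(.node (.node (.node (.node (.node (.node (.node (.leaf (nat_lit 0x100030009001b005100f3088b1c7a4ce3))
(.leaf (nat_lit 0x10003001b10861b36)))
(.leaf (nat_lit 0x10003002d005a088b1c8c)))
(.node (.node (.leaf (nat_lit 0x100030009001b005119a1))
(.leaf (nat_lit 0x10009001b046e4ecf)))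
(.leaf (nat_lit 0x10003001b005a19b3))))
(.node (.node (.node (.leaf (nat_lit 0x100030024006303cc0a7a19b3))
(.leaf (nat_lit 0x10003000901294d34)))
(.leaf (nat_lit 0x10003000900f30c0652e6)))
(.node (.node (.leaf (nat_lit 0x10003001b00510e3d1b87))
(.leaf (nat_lit 0x10003000904bf)))
(.leaf (nat_lit 0x10003005a04da1a94)))))
(.node (.node (.node (.node (.leaf (nat_lit 0x100030009001b005104bf1b87))
(.leaf (nat_lit 0x1000300510c572046)))
(.leaf (nat_lit 0x100030009001b041d4f6b)))
(.node (.node (.leaf (nat_lit 0x100030024006302d91a94))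
(.leaf (nat_lit 0x10009012902df4d88)))
(.leaf (nat_lit 0x10003007e02d919d7))))
(.node (.node (.node (.leaf (nat_lit 0x100030009001b005100f382fe))
(.leaf (nat_lit 0x10009001b02d94d34)))
(.leaf (nat_lit 0x10003001b01950b64)))
(.node (.leaf (nat_lit 0x10003001b00510b762139))
(.leaf (nat_lit 0x10003001b0e8e1c3b))))))
(.node (.node (.node (.node (.node (.leaf (nat_lit 0x100030009001b00f3037b08dc4d85))
(.leaf (nat_lit 0x1000300870d53214b)))
(.leaf (nat_lit 0x100030009001b00f3500d)))
(.node (.node (.leaf (nat_lit 0x100030024006301051c83))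
(.leaf (nat_lit 0x1000900f602df4d8b)))
(.leaf (nat_lit 0x10003001b01951f53))))
(.node (.node (.node (.leaf (nat_lit 0x100030009001b00f3032a4ce3))
(.leaf (nat_lit 0x10009001b00f3505e)))
(.leaf (nat_lit 0x10003001b0051088b)))
(.node (.node (.leaf (nat_lit 0x10003002400630e3d1a9d))
(.leaf (nat_lit 0x1000904f84d88)))
(.leaf (nat_lit 0x10003007e08a62139)))))
(.node (.node (.node (.node (.leaf (nat_lit 0x100030009001b00510d4a1f53))
(.leaf (nat_lit 0x100030087088b1e69)))
(.leaf (nat_lit 0x10009001b014402df4d8b)))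
(.node (.node (.leaf (nat_lit 0x1000300240063088b1a9d))
(.leaf (nat_lit 0x10009011102df4dbe)))
(.leaf (nat_lit 0x10003006c02d91aa6))))
(.node (.node (.node (.leaf (nat_lit 0x100030009001b01950b64))
(.leaf (nat_lit 0x10009001b05614d88)))
(.leaf (nat_lit 0x10003006300f30b6d)))
(.node (.leaf (nat_lit 0x10003001b00510b64204f))
(.leaf (nat_lit 0x1000300240edf1a94)))))))
(.node (.node (.node (.node (.node (.node (.leaf (nat_lit 0x100030009001b005102d9088b1a94))
(.leaf (nat_lit 0x10003006c0b6d2139)))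
(.leaf (nat_lit 0x100030009001b00f34ce3)))
(.node (.node (.leaf (nat_lit 0x100030009001b01441ff5))
(.leaf (nat_lit 0x10009001b04234f20)))
(.leaf (nat_lit 0x10003002d01441a4c))))
(.node (.node (.node (.leaf (nat_lit 0x100030009001b005100f34fbc))
(.leaf (nat_lit 0x10009001e01985298)))
(.leaf (nat_lit 0x100030009001b0051)))
(.node (.node (.leaf (nat_lit 0x100030024005110231b87))
(.leaf (nat_lit 0x1000901144dbb)))
(.leaf (nat_lit 0x10003006308a61aca)))))
(.node (.node (.node (.node (.leaf (nat_lit 0x100030009001b00510f301b87))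
(.leaf (nat_lit 0x1000300870d53204f)))
(.leaf (nat_lit 0x10009002100f302d94d85)))
(.node (.node (.leaf (nat_lit 0x10003001b005a04bf1a94))
(.leaf (nat_lit 0x10009011402d94dc1)))
(.leaf (nat_lit 0x10003006304f51bbd))))
(.node (.node (.node (.leaf (nat_lit 0x100030009001b0144037b))
(.leaf (nat_lit 0x10003000904f54d85)))
(.leaf (nat_lit 0x10003006301050b64)))
(.node (.leaf (nat_lit 0x100030024005a0d4a214b))
(.leaf (nat_lit 0x10003002410ce1b90))))))
(.node (.node (.node (.node (.node (.leaf (nat_lit 0x100030009001b005100f30e3d))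
(.leaf (nat_lit 0x10003006c0b762046)))
(.leaf (nat_lit 0x10009001b005702df4ce3)))
(.node (.node (.leaf (nat_lit 0x10003001b006304bf1b87))
(.leaf (nat_lit 0x10009012902d94d8b)))
(.leaf (nat_lit 0x10003002d005a1d7f))))
(.node (.node (.node (.leaf (nat_lit 0x100030009001b00f30e8e4d34))
(.leaf (nat_lit 0x10003000902d94d85)))
(.leaf (nat_lit 0x10003000900f30e8e)))
(.node (.leaf (nat_lit 0x10003001b005110231a94))
(.leaf (nat_lit 0x10003002d0e3d19a1)))))
(.node (.node (.node (.node (.leaf (nat_lit 0x100030009001b0051088b1c7a))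
(.leaf (nat_lit 0x10003000900f34ce3)))
(.leaf (nat_lit 0x10003000900f30e3d4d85)))
(.node (.node (.leaf (nat_lit 0x1000300240063088b2046))
(.leaf (nat_lit 0x1000300fc0c18529e)))
(.leaf (nat_lit 0x100030090040219bc))))
(.node (.node (.node (.leaf (nat_lit 0x100030009001b04bf088b))
(.leaf (nat_lit 0x10003000903cc4ec9)))
(.leaf (nat_lit 0x10003001b04bf092d)))
(.node (.leaf (nat_lit 0x10003001b00510c57204f))
(.leaf (nat_lit 0x1000300090f661a94)))))))))
(.node (.node (.node (.node (.node (.node (.node (.node (.leaf (nat_lit 0x100030009001b005100f3088b1f534ce3))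
(.leaf (nat_lit 0x10003001b10c51aa6)))
(.leaf (nat_lit 0x10003001b00510d5c204f)))
(.node (.node (.leaf (nat_lit 0x100030024005a03cc0a71))
(.leaf (nat_lit 0x10009001e03d24f6b)))
(.leaf (nat_lit 0x100030024046e0a71))))
(.node (.node (.node (.leaf (nat_lit 0x100030024006303cc0a7119a1))
(.leaf (nat_lit 0x10009001b01444d85)))
(.leaf (nat_lit 0x10003000901290bb55337)))
(.node (.node (.leaf (nat_lit 0x10003002d00510e3d19aa))
(.leaf (nat_lit 0x1000301b00bd96cea)))
(.leaf (nat_lit 0x10003005a04f51a94)))))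
(.node (.node (.node (.node (.leaf (nat_lit 0x100030009001b005100f31c7a))
(.leaf (nat_lit 0x1000300510c571f5c)))
(.leaf (nat_lit 0x100030009001b03cc4ec9)))
(.node (.node (.leaf (nat_lit 0x100030009006c02d91a94))
(.leaf (nat_lit 0x10009012c02dc4d8b)))
(.leaf (nat_lit 0x10003007e02d919bc))))
(.node (.node (.node (.leaf (nat_lit 0x100030009001b00f3088b505e))
(.leaf (nat_lit 0x10009001b032a4d85)))
(.leaf (nat_lit 0x10003001b01050b64)))
(.node (.leaf (nat_lit 0x10003002d005a0b641f65))
(.leaf (nat_lit 0x10003001b0edf1b87))))))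
(.node (.node (.node (.node (.node (.leaf (nat_lit 0x100030009001b00f302d9092d4d85))
(.leaf (nat_lit 0x1000300870d4a2139)))
(.leaf (nat_lit 0x100030009001b00f34fbc)))
(.node (.node (.leaf (nat_lit 0x100030024005100f31c7a))
(.leaf (nat_lit 0x1000900f902df4d8b)))
(.leaf (nat_lit 0x100030024005a2058))))
(.node (.node (.node (.leaf (nat_lit 0x100030009001b014402d94d85))
(.leaf (nat_lit 0x100030009010e4ff2)))
(.leaf (nat_lit 0x100030009010e030f)))
(.node (.node (.leaf (nat_lit 0x100030009001b0edf1a94))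
(.leaf (nat_lit 0x1000902dc4d88)))
(.leaf (nat_lit 0x10003007508c11f89)))))
(.node (.node (.node (.node (.leaf (nat_lit 0x100030009001b01440edf19a1))
(.leaf (nat_lit 0x100030087088b1e72)))
(.leaf (nat_lit 0x10009001e019b02df4ce6)))
(.node (.node (.leaf (nat_lit 0x1000300090051088b1b87))
(.leaf (nat_lit 0x10009011102d94dbb)))
(.leaf (nat_lit 0x10003008703d51b87))))
(.node (.node (.node (.leaf (nat_lit 0x100030009001b00f30e8e))
(.leaf (nat_lit 0x10009002105614ce9)))
(.leaf (nat_lit 0x10003005a00f30b6d)))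
(.node (.leaf (nat_lit 0x10003002400630b642046))
(.leaf (nat_lit 0x1000300090f9c1c5f)))))))
(.node (.node (.node (.node (.node (.node (.leaf (nat_lit 0x100030009001b005104bf088b19a1))
(.leaf (nat_lit 0x10003006c0b762139)))
(.leaf (nat_lit 0x1000300240063088b1d76)))
(.node (.node (.leaf (nat_lit 0x100030009001b00512139))
(.leaf (nat_lit 0x10009001e041d4ecc)))
(.leaf (nat_lit 0x10003002d019519b3))))
(.node (.node (.node (.leaf (nat_lit 0x100030024006302eb08941aa6))
(.leaf (nat_lit 0x10009001b00f3533d)))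
(.leaf (nat_lit 0x100030009001b0195695d)))
(.node (.node (.leaf (nat_lit 0x10003002d0051102319aa))
(.leaf (nat_lit 0x1000300871f53)))
(.leaf (nat_lit 0x100030063088b1a94)))))
(.node (.node (.node (.node (.leaf (nat_lit 0x100030009001b00510e3d19a1))
(.leaf (nat_lit 0x1000300870d5c2058)))
(.leaf (nat_lit 0x10009001b00f302d94d8b)))
(.node (.node (.leaf (nat_lit 0x10003001b006303cc1a94))
(.leaf (nat_lit 0x10009010e02df4dbb)))
(.leaf (nat_lit 0x10003005104d119aa))))
(.node (.node (.node (.leaf (nat_lit 0x100030009001b005104bf))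
(.leaf (nat_lit 0x10003000904bf4ce3)))
(.leaf (nat_lit 0x10003005101050b76)))
(.node (.leaf (nat_lit 0x10003001b00510d4a2139))
(.leaf (nat_lit 0x10003002410231b90))))))
(.node (.node (.node (.node (.node (.leaf (nat_lit 0x100030009001b005100f30b646c36))
(.leaf (nat_lit 0x1000300510c602142)))
(.leaf (nat_lit 0x10009001b005102df4ce3)))
(.node (.node (.leaf (nat_lit 0x10003002d005104bf19a1))
(.leaf (nat_lit 0x1000900f902dc4d85)))
(.leaf (nat_lit 0x10003002d00631e60))))
(.node (.node (.node (.leaf (nat_lit 0x100030009001b00f30edf4d85))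
(.leaf (nat_lit 0x10003000902d94ce3)))
(.leaf (nat_lit 0x10003000900f30e3d)))
(.node (.node (.leaf (nat_lit 0x100030009006c0f301aca))
(.leaf (nat_lit 0x1016882fe)))
(.leaf (nat_lit 0x10003006c088b204f)))))
(.node (.node (.node (.node (.leaf (nat_lit 0x10003001b005101050b641f65))
(.leaf (nat_lit 0x10003009008c11d88)))
(.leaf (nat_lit 0x100030009010e088b5295)))
(.node (.node (.leaf (nat_lit 0x100030009006c088b216f))
(.leaf (nat_lit 0x10009010e0e8e4d8b)))
(.leaf (nat_lit 0x10003009003e719d7))))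
(.node (.node (.node (.leaf (nat_lit 0x100030024005a02d9088b))
(.leaf (nat_lit 0x10009002105164d3a)))
(.leaf (nat_lit 0x10003002403840894)))
(.node (.leaf (nat_lit 0x10003002d00510c572046))
(.leaf (nat_lit 0x1000300750f3919d7))))))))
(.node (.node (.node (.node (.node (.node (.node (.leaf (nat_lit 0x100030009001b005100f302d919a1))
(.leaf (nat_lit 0x10003006c0b761f65)))
(.leaf (nat_lit 0x10003001b0051089d1e60)))
(.node (.node (.leaf (nat_lit 0x100030009001b019519a1))
(.leaf (nat_lit 0x100090021046e4f6e)))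
(.leaf (nat_lit 0x100030009006c1aca))))
(.node (.node (.node (.leaf (nat_lit 0x100030024006303d50a7119b3))
(.leaf (nat_lit 0x10009001b00575295)))
(.leaf (nat_lit 0x100030009001b01448025)))
(.node (.node (.leaf (nat_lit 0x10003001b005a0e3d1b99))
(.leaf (nat_lit 0x1000300630b76)))
(.leaf (nat_lit 0x100030051088b19b3)))))
(.node (.node (.node (.node (.leaf (nat_lit 0x100030009001b005103cc1a94))
(.leaf (nat_lit 0x1000300510c602058)))
(.leaf (nat_lit 0x100030009001b046e4f1a)))
(.node (.node (.leaf (nat_lit 0x10003001b005a03cc19a1))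
(.leaf (nat_lit 0x10009012c02dc4d88)))
(.leaf (nat_lit 0x10003005104bf19a1))))
(.node (.node (.node (.leaf (nat_lit 0x100030009001b005100f36684))
(.leaf (nat_lit 0x10009001b032a4ce9)))
(.leaf (nat_lit 0x100030009017a0c06)))
(.node (.leaf (nat_lit 0x10003002d005a0b64214b))
(.leaf (nat_lit 0x10003002d102319aa))))))
(.node (.node (.node (.node (.node (.leaf (nat_lit 0x100030009001b005100f3088b85d7))
(.leaf (nat_lit 0x1000300870d5c2142)))
(.leaf (nat_lit 0x100030009001b037b4d85)))
(.node (.node (.leaf (nat_lit 0x100030024005a02d919a1))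
(.leaf (nat_lit 0x1000900f302dc4d88)))
(.leaf (nat_lit 0x10003001b01442007))))
(.node (.node (.node (.leaf (nat_lit 0x100030009001b00f3088b4d85))
(.leaf (nat_lit 0x10009001e01954fbf)))
(.leaf (nat_lit 0x1000300090129088b)))
(.node (.node (.leaf (nat_lit 0x10003001b005a0f3019b3))
(.leaf (nat_lit 0x1000301448025)))
(.leaf (nat_lit 0x10003007e08c12139)))))
(.node (.node (.node (.node (.leaf (nat_lit 0x100030009001b00510c571f53))
(.leaf (nat_lit 0x100030090088b1d6d)))
(.leaf (nat_lit 0x10009001b014402dc4d88)))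
(.node (.node (.leaf (nat_lit 0x1000300240051088b1f53))
(.leaf (nat_lit 0x10009011402df4dbe)))
(.leaf (nat_lit 0x10003006c02d91a9d))))
(.node (.node (.node (.leaf (nat_lit 0x10003001b005100f30b76))
(.leaf (nat_lit 0x10003000904bf4d34)))
(.leaf (nat_lit 0x10003002402d9088b)))
(.node (.leaf (nat_lit 0x10003001b00510c691f53))
(.leaf (nat_lit 0x1000300240e8e1b3f)))))))
(.node (.node (.node (.node (.node (.node (.leaf (nat_lit 0x100030009001b005100f3088b4ce3))
(.leaf (nat_lit 0x1000300870d4a1f65)))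
(.leaf (nat_lit 0x100030009001b00f34d34)))
(.node (.node (.leaf (nat_lit 0x10003001b006300f31f53))
(.leaf (nat_lit 0x1000900f302d94d85)))
(.leaf (nat_lit 0x100030024005a1f65))))
(.node (.node (.node (.leaf (nat_lit 0x100030009001b00f302d94ce3))
(.leaf (nat_lit 0x10003000900f352e6)))
(.leaf (nat_lit 0x100030009005100f3)))
(.node (.node (.leaf (nat_lit 0x100030024006310351b90))
(.leaf (nat_lit 0x1000900f3533d)))
(.leaf (nat_lit 0x10003006308c11aaf)))))
(.node (.node (.node (.node (.leaf (nat_lit 0x100030009001b005110231a94))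
(.leaf (nat_lit 0x10003009908c11c7a)))
(.leaf (nat_lit 0x10009001e019502d94ce3)))
(.node (.node (.leaf (nat_lit 0x1000300090051088b19a1))
(.leaf (nat_lit 0x10009011102d94dc1)))
(.leaf (nat_lit 0x10003006304da1ba2))))
(.node (.node (.node (.leaf (nat_lit 0x100030009001b0195088b))
(.leaf (nat_lit 0x10009002104bf4d85)))
(.leaf (nat_lit 0x10003005a01050b64)))
(.node (.leaf (nat_lit 0x10003001b00510c69214b))
(.leaf (nat_lit 0x1000300090f301b87))))))
(.node (.node (.node (.node (.node (.leaf (nat_lit 0x100030009001b005103cc0a71))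
(.leaf (nat_lit 0x10003006c0b6d2046)))
(.leaf (nat_lit 0x100030009001b04bf4d85)))
(.node (.node (.leaf (nat_lit 0x100030024006304c81b90))
(.leaf (nat_lit 0x10009012f02d94d85)))
(.leaf (nat_lit 0x10003002400fc1c83))))
(.node (.node (.node (.leaf (nat_lit 0x100030009001b00f30c065295))
(.leaf (nat_lit 0x10009001b02dc4d85)))
(.leaf (nat_lit 0x10003002400630b64)))
(.node (.leaf (nat_lit 0x10003001b005a10231aa6))
(.leaf (nat_lit 0x10003002d0edf19b3)))))
(.node (.node (.node (.node (.leaf (nat_lit 0x10003001b005104bf088b19b3))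
(.leaf (nat_lit 0x10003000901294d85)))
(.leaf (nat_lit 0x10003000900f30e3d4d34)))
(.node (.node (.leaf (nat_lit 0x10003001b0051088b204f))
(.leaf (nat_lit 0x10003018c0b9a85d7)))
(.leaf (nat_lit 0x10003009904021aca))))
(.node (.node (.node (.leaf (nat_lit 0x10003001b005104bf089d))
(.leaf (nat_lit 0x10003000904024f6b)))
(.leaf (nat_lit 0x10003001b0561089d)))
(.node (.leaf (nat_lit 0x10003001b00510d5c2046))
(.leaf (nat_lit 0x1000300090fed1aca))))))))))))

/-- The table. -/
noncomputable def nt (j : ℕ) : ℕ := ntB.get j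

/-- The surviving subgroups. -/
noncomputable def sv (j : ℕ) : Bool := bor (blt j 3) (bor (Nat.beq j 93) (Nat.beq j 1015))

end Cfsg.Agent.Th3
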